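import Cfsg.Agent.Lib.Fi23Three.Data

/-!
# A 3-centraliser of type Fi₂₃: the standard Sylow 3-subgroup by codes
-/

set_option autoImplicit false
set_option linter.unusedSectionVars false
set_option maxRecDepth 100000
set_option synthInstance.maxSize 8000
set_option synthInstance.maxHeartbeats 400000

namespace Cfsg.Lib.Fi23Three

/-- A code: exponents of the three factor elements and of the shift. -/
abbrev Code : Type := (Fin 3 → Fin 3) × Fin 3

/-- The product of codes. -/
def cmul (p q : Code) : Code := (fun i => p.1 i + q.1 (i - p.2), p.2 + q.2)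

/-- The trivial code. -/
def cone : Code := (0, 0)

/-- The inverse code. -/
def cinv (p : Code) : Code := (fun i => -p.1 (i + p.2), -p.2)

/-- The commutator of codes. -/
def ccomm (p q : Code) : Code := cmul (cmul p q) (cmul (cinv p) (cinv q))

theorem cmul_cone : ∀ p : Code, cmul p cone = p ∧ cmul cone p = p := by decide +kernel

theorem cmul_cinv : ∀ p : Code, cmul p (cinv p) = cone ∧ cmul (cinv p) p = cone := by decide +kernel

theorem cinv_unique : ∀ p q : Code, cmul p q = cone → q = cinv p := by decide +kernel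

theorem cinv_eq : ∀ p q : Code, cmul (cinv q) p = cone → p = q := by decide +kernel

theorem cmul_assoc (p q r : Code) : cmul (cmul p q) r = cmul p (cmul q r) := by
  refine Prod.ext (funext fun i => ?_) (add_assoc _ _ _)
  show p.1 i + q.1 (i - p.2) + r.1 (i - (p.2 + q.2)) = p.1 i + (q.1 (i - p.2) + r.1 (i - p.2 - q.2))
  rw [sub_sub, add_assoc]

/-- A digit of a tensor index. -/
def bit8 (q : Fin 8) (i : Fin 3) : ℕ := q.1 / 2 ^ (2 - i.1) % 2

/-- An entry of a power of the factor element. -/
def xent (a : Fin 3) (q r : ℕ) : ℕ := if q = r then 1 else if q = 0 then a.1 else 0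

/-- The matrix of a code. -/
def SM (p : Code) : M8 := List.ofFn fun q : Fin 8 => List.ofFn fun r : Fin 8 =>
  (xent (p.1 0) (bit8 q 0) (bit8 r (0 - p.2)) * xent (p.1 1) (bit8 q 1) (bit8 r (1 - p.2)) *
    xent (p.1 2) (bit8 q 2) (bit8 r (2 - p.2))) % 3

/-- The generators. -/
def cgen : Fin 4 → Code := ![(![1, 0, 0], 0), (![0, 1, 0], 0), (![0, 0, 1], 0), (0, 1)]

theorem mmul_SM : ∀ (j : Fin 4) (p : Code), mmul (SM (cgen j)) (SM p) = SM (cmul (cgen j) p) := by decide +kernel

theorem SM_cone : SM cone = one8 := by decide +kernel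

/-- A decomposition of a code as a word in the generators. -/
def cword (p : Code) : List (Fin 4) :=
  List.replicate (p.1 0).1 0 ++ List.replicate (p.1 1).1 1 ++ List.replicate (p.1 2).1 2 ++ List.replicate p.2.1 3

theorem cword_spec : ∀ p : Code, (cword p).foldr (fun j c => cmul (cgen j) c) cone = p := by decide +kernel

theorem ev_SM_mul (p q : Code) (v : V) : ev (SM (cmul p q)) v = ev (SM p) (ev (SM q) v) := by
  have h : ∀ (L : List (Fin 4)) (r : Code) (w : V), ev (SM (cmul (L.foldr (fun j c => cmul (cgen j) c) cone) r)) w =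
      ev (SM (L.foldr (fun j c => cmul (cgen j) c) cone)) (ev (SM r) w) := by
    intro L
    induction L with
    | nil => intro r w; rw [List.foldr_nil, (cmul_cone r).2, SM_cone, ev_one8]
    | cons j L ih =>
      intro r w
      rw [List.foldr_cons, cmul_assoc, ← mmul_SM, ev_mmul, ih, ← ev_mmul, mmul_SM]
  have := h (cword p) q v
  rwa [cword_spec] at this

theorem SM_faithful : ∀ p : Code, (∀ i, ev (SM p) (bas i) = bas i) → p = cone := by decide +kernel

theorem symp_cgen (j : Fin 4) : Symp (SM (cgen j)) := fun q r =>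
  (show ∀ (j : Fin 4) (q r : Fin 8), ω (ev (SM (cgen j)) (bas q)) (ev (SM (cgen j)) (bas r)) = ω (bas q) (bas r) by decide +kernel) j q r

theorem sperm_cgen : ∀ j : Fin 4, ∀ u : W6, zeta6 (sfun (cgen j).1 (cgen j).2 u) = sfun (cgen j).1 (cgen j).2 (zeta6 u) := by
  decide +kernel

theorem sperm_cgen_mem_CZ (j : Fin 4) : sperm (cgen j).1 (cgen j).2 ∈ CZ :=
  ⟨sperm_mem _ _, Subgroup.mem_centralizer_singleton_iff.2 (Equiv.ext fun u => (sperm_cgen j u).symm)⟩

/-- The representatives of the classes of elements of order three. -/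
def rep : Fin 6 → Code :=
  ![(![1, 0, 0], 0), (![1, 1, 0], 0), (![1, 2, 0], 0), (![1, 1, 1], 0), (![1, 1, 2], 0), (![0, 0, 0], 1)]

theorem exists_rep : ∀ p : Code, p ≠ cone → cmul p (cmul p p) = cone → ∃ (q : Code) (j : Fin 6),
    cmul (cmul q p) (cinv q) = rep j ∨ cmul (cmul q p) (cinv q) = cinv (rep j) := by decide +kernel

theorem ccomm_central : ∀ p q : Code, cmul (ccomm p q) p = cmul p (ccomm p q) → cmul (ccomm p q) q = cmul q (ccomm p q) →
    ccomm p q = cone ∨ ccomm p q = rep 3 ∨ ccomm p q = cinv (rep 3) := by decide +kernel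

theorem cent_small : ∀ p : Code, p.2 ≠ 0 → Nat.card {q : Code // cmul p q = cmul q p} ≤ 9 := by
  have h : ∀ p : Code, p.2 ≠ 0 → Fintype.card {q : Code // cmul p q = cmul q p} ≤ 9 := by decide +kernel
  intro p hp
  rw [Nat.card_eq_fintype_card]
  exact h p hp

/-- A commuting set of more than nine codes lies in the base. -/
theorem commuting_base {s : Set Code} (hs : ∀ p ∈ s, ∀ q ∈ s, cmul p q = cmul q p) (hc : 9 < Nat.card s) :
    (∀ p ∈ s, p.2 = 0) ∧ Nat.card s ≤ 27 ∧ (27 ≤ Nat.card s → ∀ p : Code, p.2 = 0 → p ∈ s) := by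
  classical
  have h0 : ∀ p ∈ s, p.2 = 0 := fun p hp => by
    by_contra hne
    have := Nat.card_le_card_of_injective (fun q : s => (⟨q.1, hs p hp q.1 q.2⟩ : {q : Code // cmul p q = cmul q p}))
      fun a b e => Subtype.ext (congrArg (fun u : {q : Code // cmul p q = cmul q p} => u.1) e)
    have := cent_small p hne
    omega
  let f : s → {p : Code // p.2 = 0} := fun p => ⟨p.1, h0 p.1 p.2⟩
  have hf : Function.Injective f := fun a b e => Subtype.ext (congrArg (fun u : {p : Code // p.2 = 0} => u.1) e)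
  have hb : Nat.card {p : Code // p.2 = 0} = 27 := by rw [Nat.card_eq_fintype_card]; decide +kernel
  have hle := Nat.card_le_card_of_injective f hf
  rw [hb] at hle
  refine ⟨h0, hle, fun h27 p hp => ?_⟩
  obtain ⟨⟨q, hq⟩, e⟩ := ((Nat.bijective_iff_injective_and_card f).2 ⟨hf, by rw [hb]; omega⟩).2 ⟨p, hp⟩
  rw [show p = q from (congrArg (fun u : {p : Code // p.2 = 0} => u.1) e).symm]; exact hq

end Cfsg.Lib.Fi23Three
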