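import Cfsg.Agent.Lib.Fi23Three.Pt.Fixed
import Cfsg.Agent.Lib.Fi23Three.Pt.Code

/-!
# A 3-centraliser of type Fi₂₃: fixed spaces of the representatives
-/

set_option autoImplicit false
set_option linter.unusedSectionVars false
set_option maxRecDepth 100000
set_option synthInstance.maxSize 8000

namespace Cfsg.Lib.Fi23Three

/-- A vector given by its tensor coordinates. -/
def vl (l : List ℕ) : V := ofc fun i => (l.getD i 0 : ℕ)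

/-- The functionals given by the rows of a matrix. -/
def cv (n : ℕ) (M : M8) (v : V) : Fin n → ZMod 3 := fun a =>
  if h : a.1 < 8 then co (ev M v) ⟨a.1, h⟩ else 0

/-- The fixed space of a representative with a dual system of functionals. -/
structure Cert (n : ℕ) (j : Fin 6) where
  f : Fin n → V
  C : M8
  P : M8
  hfix : ∀ a, ev (SM (rep j)) (f a) = f a
  hspan : ∀ i, bas i = lin f (cv n C (bas i)) + ev P (ev (SM (rep j)) (bas i) - bas i)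
  hdual : ∀ a, cv n C (f a) = Pi.single a 1

namespace Cert

variable {n : ℕ} {j : Fin 6} (K : Cert n j)

theorem cv_add (v w : V) : cv n K.C (v + w) = cv n K.C v + cv n K.C w := by
  funext a
  simp only [cv, Pi.add_apply]
  split_ifs
  · rw [ev_add, co_add, Pi.add_apply]
  · rw [add_zero]

theorem span {v : V} (hv : ev (SM (rep j)) v = v) : ∃ c, v = lin K.f c := by
  refine ⟨cv n K.C v, ?_⟩
  have h := ext_bas (f := fun v => v) (g := fun v => lin K.f (cv n K.C v) + ev K.P (ev (SM (rep j)) v - v))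
    (fun _ _ => rfl) (fun a b => by
      show _ + ev K.P _ = (_ + ev K.P _) + (_ + ev K.P _)
      rw [K.cv_add, lin_add, ev_add, add_sub_add_comm, ev_add]; abel) K.hspan v
  simp only [hv, sub_self] at h
  rwa [show ev K.P 0 = 0 by simpa using ev_add K.P 0 0, add_zero] at h

theorem indep {c : Fin n → ZMod 3} (h : lin K.f c = 0) : c = 0 := by
  let Φ : (Fin n → ZMod 3) →+ (Fin n → ZMod 3) := AddMonoidHom.mk' (fun c => cv n K.C (lin K.f c)) fun a b => by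
    rw [lin_add, K.cv_add]
  have h1 : Φ c = c := by
    conv_lhs => rw [eq_sum_single c, map_sum]
    conv_rhs => rw [eq_sum_single c]
    refine Finset.sum_congr rfl fun a _ => ?_
    rw [ZMod.map_smul]
    congr 1
    show cv n K.C (lin K.f (Pi.single a 1)) = _
    rw [lin_single, K.hdual]
  rw [← h1]
  show cv n K.C (lin K.f c) = 0
  rw [h]
  simpa using K.cv_add 0 0

end Cert

/-- The fixed space of representative 0. -/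
def cert0 : Cert 4 0 where
  f := ![vl [2, 0, 0, 0, 0, 0, 0, 0], vl [0, 2, 0, 0, 0, 0, 0, 0], vl [0, 0, 2, 0, 0, 0, 0, 0], vl [0, 0, 0, 2, 0, 0, 0, 0]]
  C := [[2, 0, 0, 0, 0, 0, 0, 0], [0, 2, 0, 0, 0, 0, 0, 0], [0, 0, 2, 0, 0, 0, 0, 0], [0, 0, 0, 2, 0, 0, 0, 0], [0, 0, 0, 0, 0, 0, 0, 0], [0, 0, 0, 0, 0, 0, 0, 0], [0, 0, 0, 0, 0, 0, 0, 0], [0, 0, 0, 0, 0, 0, 0, 0]]
  P := [[0, 0, 0, 0, 0, 0, 0, 0], [0, 0, 0, 0, 0, 0, 0, 0], [0, 0, 0, 0, 0, 0, 0, 0], [0, 0, 0, 0, 0, 0, 0, 0], [1, 0, 0, 0, 0, 0, 0, 0], [0, 1, 0, 0, 0, 0, 0, 0], [0, 0, 1, 0, 0, 0, 0, 0], [0, 0, 0, 1, 0, 0, 0, 0]]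
  hfix := by decide +kernel
  hspan := by decide +kernel
  hdual := by decide +kernel

/-- Preimages for representative 0. -/
def pre0 : Fin 4 → V := ![vl [0, 0, 0, 0, 1, 0, 0, 0], vl [0, 0, 0, 0, 0, 1, 0, 0], vl [0, 0, 0, 0, 0, 0, 1, 0], vl [0, 0, 0, 0, 0, 0, 0, 1]]

theorem pre0_spec : ∀ a : Fin 4, pre0 a - ev (SM (rep 0)) (pre0 a) = cert0.f (Fin.castLE (by omega) a) := by
  decide +kernel

theorem form0 : ∀ a b : Fin 4, ω (cert0.f a) (cert0.f b) = 0 := by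
  decide +kernel

theorem pair0 : ∀ a b : Fin 4, ω (pre0 a) (cert0.f b) =
    if (a = 0 ∧ b = 3) ∨ (a = 3 ∧ b = 0) then 1 else if (a = 1 ∧ b = 2) ∨ (a = 2 ∧ b = 1) then 2 else 0 := by
  decide +kernel

/-- The fixed space of representative 1. -/
def cert1 : Cert 4 1 where
  f := ![vl [2, 0, 0, 0, 0, 0, 0, 0], vl [0, 2, 0, 0, 0, 0, 0, 0], vl [0, 0, 2, 0, 1, 0, 0, 0], vl [0, 0, 0, 2, 0, 1, 0, 0]]
  C := [[2, 0, 0, 0, 0, 0, 0, 0], [0, 2, 0, 0, 0, 0, 0, 0], [0, 0, 0, 0, 1, 0, 0, 0], [0, 0, 0, 0, 0, 1, 0, 0], [0, 0, 0, 0, 0, 0, 0, 0], [0, 0, 0, 0, 0, 0, 0, 0], [0, 0, 0, 0, 0, 0, 0, 0], [0, 0, 0, 0, 0, 0, 0, 0]]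
  P := [[0, 0, 0, 0, 0, 0, 0, 0], [0, 0, 0, 0, 0, 0, 0, 0], [1, 0, 0, 0, 2, 0, 0, 0], [0, 1, 0, 0, 0, 2, 0, 0], [0, 0, 0, 0, 0, 0, 0, 0], [0, 0, 0, 0, 0, 0, 0, 0], [0, 0, 0, 0, 1, 0, 0, 0], [0, 0, 0, 0, 0, 1, 0, 0]]
  hfix := by decide +kernel
  hspan := by decide +kernel
  hdual := by decide +kernel

/-- Preimages for representative 1. -/
def pre1 : Fin 2 → V := ![vl [0, 0, 1, 0, 0, 0, 0, 0], vl [0, 0, 0, 1, 0, 0, 0, 0]]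

theorem pre1_spec : ∀ a : Fin 2, pre1 a - ev (SM (rep 1)) (pre1 a) = cert1.f (Fin.castLE (by omega) a) := by
  decide +kernel

theorem form1 : ∀ a b : Fin 4, ω (cert1.f a) (cert1.f b) = if a = 2 ∧ b = 3 then 2 else if a = 3 ∧ b = 2 then 1 else 0 := by
  decide +kernel

/-- The fixed space of representative 2. -/
def cert2 : Cert 4 2 where
  f := ![vl [2, 0, 0, 0, 0, 0, 0, 0], vl [0, 2, 0, 0, 0, 0, 0, 0], vl [0, 0, 2, 0, 2, 0, 0, 0], vl [0, 0, 0, 2, 0, 2, 0, 0]]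
  C := [[2, 0, 0, 0, 0, 0, 0, 0], [0, 2, 0, 0, 0, 0, 0, 0], [0, 0, 0, 0, 2, 0, 0, 0], [0, 0, 0, 0, 0, 2, 0, 0], [0, 0, 0, 0, 0, 0, 0, 0], [0, 0, 0, 0, 0, 0, 0, 0], [0, 0, 0, 0, 0, 0, 0, 0], [0, 0, 0, 0, 0, 0, 0, 0]]
  P := [[0, 0, 0, 0, 0, 0, 0, 0], [0, 0, 0, 0, 0, 0, 0, 0], [2, 0, 0, 0, 1, 0, 0, 0], [0, 2, 0, 0, 0, 1, 0, 0], [0, 0, 0, 0, 0, 0, 0, 0], [0, 0, 0, 0, 0, 0, 0, 0], [0, 0, 0, 0, 2, 0, 0, 0], [0, 0, 0, 0, 0, 2, 0, 0]]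
  hfix := by decide +kernel
  hspan := by decide +kernel
  hdual := by decide +kernel

/-- Preimages for representative 2. -/
def pre2 : Fin 2 → V := ![vl [0, 0, 2, 0, 0, 0, 0, 0], vl [0, 0, 0, 2, 0, 0, 0, 0]]

theorem pre2_spec : ∀ a : Fin 2, pre2 a - ev (SM (rep 2)) (pre2 a) = cert2.f (Fin.castLE (by omega) a) := by
  decide +kernel

theorem form2 : ∀ a b : Fin 4, ω (cert2.f a) (cert2.f b) = if a = 2 ∧ b = 3 then 1 else if a = 3 ∧ b = 2 then 2 else 0 := by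
  decide +kernel

/-- The fixed space of representative 3. -/
def cert3 : Cert 3 3 where
  f := ![vl [0, 2, 1, 0, 0, 0, 0, 0], vl [2, 0, 0, 0, 0, 0, 0, 0], vl [0, 2, 2, 0, 2, 0, 0, 0]]
  C := [[0, 0, 1, 0, 2, 0, 0, 0], [2, 0, 0, 0, 0, 0, 0, 0], [0, 0, 0, 0, 2, 0, 0, 0], [0, 0, 0, 0, 0, 0, 0, 0], [0, 0, 0, 0, 0, 0, 0, 0], [0, 0, 0, 0, 0, 0, 0, 0], [0, 0, 0, 0, 0, 0, 0, 0], [0, 0, 0, 0, 0, 0, 0, 0]]
  P := [[0, 0, 0, 0, 0, 0, 0, 0], [1, 1, 1, 0, 1, 0, 2, 0], [0, 0, 0, 0, 0, 0, 0, 0], [0, 2, 2, 0, 1, 0, 1, 0], [0, 0, 0, 0, 0, 0, 0, 0], [0, 2, 1, 0, 2, 0, 1, 0], [0, 1, 2, 0, 2, 0, 1, 0], [0, 0, 0, 0, 0, 0, 1, 0]]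
  hfix := by decide +kernel
  hspan := by decide +kernel
  hdual := by decide +kernel

/-- Preimages for representative 3. -/
def pre3 : Fin 3 → V := ![vl [0, 0, 0, 0, 0, 1, 2, 0], vl [0, 1, 0, 0, 0, 0, 0, 0], vl [0, 0, 0, 2, 0, 2, 2, 0]]

theorem pre3_spec : ∀ a : Fin 3, pre3 a - ev (SM (rep 3)) (pre3 a) = cert3.f (Fin.castLE (by omega) a) := by
  decide +kernel

theorem form3 : ∀ a b : Fin 3, ω (cert3.f a) (cert3.f b) = 0 := by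
  decide +kernel

theorem pair3 : ∀ a b : Fin 3, ω (pre3 a) (cert3.f b) = if a = 0 ∧ b = 0 then 2 else 0 := by
  decide +kernel

/-- The fixed space of representative 4. -/
def cert4 : Cert 3 4 where
  f := ![vl [0, 2, 2, 0, 0, 0, 0, 0], vl [2, 0, 0, 0, 0, 0, 0, 0], vl [0, 2, 1, 0, 1, 0, 0, 0]]
  C := [[0, 0, 2, 0, 1, 0, 0, 0], [2, 0, 0, 0, 0, 0, 0, 0], [0, 0, 0, 0, 1, 0, 0, 0], [0, 0, 0, 0, 0, 0, 0, 0], [0, 0, 0, 0, 0, 0, 0, 0], [0, 0, 0, 0, 0, 0, 0, 0], [0, 0, 0, 0, 0, 0, 0, 0], [0, 0, 0, 0, 0, 0, 0, 0]]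
  P := [[0, 0, 0, 0, 0, 0, 0, 0], [2, 1, 2, 0, 2, 0, 1, 0], [0, 0, 0, 0, 0, 0, 0, 0], [0, 2, 1, 0, 2, 0, 2, 0], [0, 0, 0, 0, 0, 0, 0, 0], [0, 2, 2, 0, 1, 0, 2, 0], [0, 2, 2, 0, 2, 0, 1, 0], [0, 0, 0, 0, 0, 0, 2, 0]]
  hfix := by decide +kernel
  hspan := by decide +kernel
  hdual := by decide +kernel

/-- Preimages for representative 4. -/
def pre4 : Fin 3 → V := ![vl [0, 0, 0, 0, 0, 1, 1, 0], vl [0, 2, 0, 0, 0, 0, 0, 0], vl [0, 0, 0, 2, 0, 2, 1, 0]]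

theorem pre4_spec : ∀ a : Fin 3, pre4 a - ev (SM (rep 4)) (pre4 a) = cert4.f (Fin.castLE (by omega) a) := by
  decide +kernel

theorem form4 : ∀ a b : Fin 3, ω (cert4.f a) (cert4.f b) = 0 := by
  decide +kernel

theorem pair4 : ∀ a b : Fin 3, ω (pre4 a) (cert4.f b) = if a = 0 ∧ b = 0 then 1 else 0 := by
  decide +kernel

/-- The fixed space of representative 5. -/
def cert5 : Cert 4 5 where
  f := ![vl [0, 2, 2, 0, 2, 0, 0, 0], vl [0, 0, 0, 2, 0, 2, 2, 0], vl [2, 0, 0, 0, 0, 0, 0, 0], vl [0, 0, 0, 0, 0, 0, 0, 2]]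
  C := [[0, 0, 0, 0, 2, 0, 0, 0], [0, 0, 0, 0, 0, 0, 2, 0], [2, 0, 0, 0, 0, 0, 0, 0], [0, 0, 0, 0, 0, 0, 0, 2], [0, 0, 0, 0, 0, 0, 0, 0], [0, 0, 0, 0, 0, 0, 0, 0], [0, 0, 0, 0, 0, 0, 0, 0], [0, 0, 0, 0, 0, 0, 0, 0]]
  P := [[0, 0, 0, 0, 0, 0, 0, 0], [0, 0, 0, 0, 1, 0, 0, 0], [0, 0, 2, 0, 0, 0, 0, 0], [0, 0, 0, 0, 0, 1, 1, 0], [0, 0, 0, 0, 0, 0, 0, 0], [0, 0, 0, 0, 0, 0, 1, 0], [0, 0, 0, 0, 0, 0, 0, 0], [0, 0, 0, 0, 0, 0, 0, 0]]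
  hfix := by decide +kernel
  hspan := by decide +kernel
  hdual := by decide +kernel

/-- Preimages for representative 5. -/
def pre5 : Fin 2 → V := ![vl [0, 2, 0, 0, 1, 0, 0, 0], vl [0, 0, 0, 2, 0, 1, 0, 0]]

theorem pre5_spec : ∀ a : Fin 2, pre5 a - ev (SM (rep 5)) (pre5 a) = cert5.f (Fin.castLE (by omega) a) := by
  decide +kernel

theorem form5 : ∀ a b : Fin 4, ω (cert5.f a) (cert5.f b) = if a = 2 ∧ b = 3 then 1 else if a = 3 ∧ b = 2 then 2 else 0 := by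
  decide +kernel

end Cfsg.Lib.Fi23Three
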