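import Cfsg.Agent.Lib.Fi23Three.Std

/-!
# A 3-centraliser of type Fi₂₃: commutators of `Q` with an element of `C(z)`

On the vectors fixed by `y` the commutator with `y` is a functional `chi` into the centre.
-/

set_option autoImplicit false
set_option linter.unusedSectionVars false
set_option maxRecDepth 4000

namespace Cfsg.Lib.Fi23Three

open Subgroup
open scoped commutatorElement
open Cfsg.Lib.U6Three (zp zp_add zp_zero zp_one zp_inv zp_mem zp_comm zp_eq_one)

/-- A combination of vectors. -/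
def lin {n : ℕ} (f : Fin n → V) (c : Fin n → ZMod 3) : V := ∑ a, c a • f a

theorem lin_add {n : ℕ} (f : Fin n → V) (c d : Fin n → ZMod 3) : lin f (c + d) = lin f c + lin f d := by
  simp only [lin, Pi.add_apply, add_smul, Finset.sum_add_distrib]

theorem lin_single {n : ℕ} (f : Fin n → V) (a : Fin n) : lin f (Pi.single a 1) = f a := by
  rw [lin, Finset.sum_eq_single a (fun b _ hb => by rw [Pi.single_eq_of_ne hb, zero_smul]) (by simp),
    Pi.single_eq_same, one_smul]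

theorem eq_sum_single {n : ℕ} (c : Fin n → ZMod 3) : c = ∑ a, c a • (Pi.single a 1 : Fin n → ZMod 3) := by
  funext b
  simp [Finset.sum_apply, Pi.single_apply]

theorem additive_sum {n : ℕ} (φ : (Fin n → ZMod 3) → ZMod 3) (h : ∀ c d, φ (c + d) = φ c + φ d) (c : Fin n → ZMod 3) :
    φ c = ∑ a, c a * φ (Pi.single a 1) := by
  let Φ : (Fin n → ZMod 3) →+ ZMod 3 := AddMonoidHom.mk' φ h
  show Φ c = _
  conv_lhs => rw [eq_sum_single c, map_sum]
  exact Finset.sum_congr rfl fun a _ => by rw [ZMod.map_smul, smul_eq_mul]; rfl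

theorem ω_sum_left {n : ℕ} (f : Fin n → V) (c : Fin n → ZMod 3) (w : V) :
    ω (lin f c) w = ∑ a, c a * ω (f a) w := by
  rw [additive_sum (fun c => ω (lin f c) w) (fun c d => by rw [lin_add, ω_add_left]) c]
  exact Finset.sum_congr rfl fun a _ => by rw [lin_single]

theorem ω_lin {n m : ℕ} (f : Fin n → V) (g : Fin m → V) (c : Fin n → ZMod 3) (d : Fin m → ZMod 3) :
    ω (lin f c) (lin g d) = ∑ a, ∑ b, c a * d b * ω (f a) (g b) := by
  rw [ω_sum_left]
  refine Finset.sum_congr rfl fun a _ => ?_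
  rw [ω_swap, ω_sum_left, ← Finset.sum_neg_distrib, Finset.mul_sum]
  exact Finset.sum_congr rfl fun b _ => by rw [ω_swap (f a) (g b)]; ring

namespace Frame

variable {G : Type*} [Group G] [Finite G] (F : Frame G)

/-- The commutator with `y` as an exponent. -/
noncomputable def chi (y : G) (v : V) : ZMod 3 := F.zlog ⁅F.el v, y⁆

theorem psi_vec {y q : G} (hy : Commute y F.z) (hq : q ∈ F.Q) :
    ⁅q, y⁆ ∈ F.Q ∧ F.vec ⁅q, y⁆ = F.vec q - F.act y (F.vec q) := by
  obtain ⟨h1, h2⟩ := F.vec_comm hy hq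
  rw [← commutatorElement_inv y q]
  exact ⟨inv_mem h1, by rw [F.vec_inv h1, h2, neg_sub]⟩

theorem psi_mul {y q q' : G} (hy : Commute y F.z) (hq : q ∈ F.Q) (hq' : q' ∈ F.Q) :
    ⁅q * q', y⁆ = zp F.z (ω (F.vec q) (F.vec ⁅q', y⁆)) * ⁅q', y⁆ * ⁅q, y⁆ := by
  rw [← F.form_eq hq (F.psi_vec hy hq').1]
  simp only [commutatorElement_def]
  group

theorem psi_central_mul {y q w : G} (hy : Commute y F.z) (hw : w ∈ F.Zc) : ⁅w * q, y⁆ = w * ⁅q, y⁆ * w⁻¹ := by
  simp only [commutatorElement_def, mul_inv_rev]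
  rw [show w * q * y * (q⁻¹ * w⁻¹) * y⁻¹ = w * (q * y * q⁻¹) * (w⁻¹ * y⁻¹) by group,
    ((F.comm_Zc hy hw).symm.inv_inv).eq]
  group

theorem psi_el {y q : G} (hy : Commute y F.z) (hq : q ∈ F.Q) : ⁅q, y⁆ = ⁅F.el (F.vec q), y⁆ := by
  obtain ⟨w, hw, e⟩ := F.exists_el hq
  conv_lhs => rw [e, F.psi_central_mul hy hw, (F.comm_Q_Zc (F.psi_vec hy (F.el_mem _)).1 hw).symm.eq, mul_inv_cancel_right]

theorem chi_spec {y q : G} (hy : Commute y F.z) (hq : q ∈ F.Q) (hf : F.act y (F.vec q) = F.vec q) :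
    ⁅q, y⁆ = zp F.z (F.chi y (F.vec q)) := by
  rw [F.psi_el hy hq, chi]
  refine F.zlog_spec ((F.mem_Zc_iff (F.psi_vec hy (F.el_mem _)).1).2 ?_)
  rw [(F.psi_vec hy (F.el_mem _)).2, F.vec_el, hf, sub_self]

theorem chi_add {y : G} (hy : Commute y F.z) {v w : V} (hv : F.act y v = v) (hw : F.act y w = w) :
    F.chi y (v + w) = F.chi y v + F.chi y w := by
  refine F.zp_z_inj ?_
  have hm := F.Q.mul_mem (F.el_mem v) (F.el_mem w)
  have hvec : F.vec (F.el v * F.el w) = v + w := by rw [F.vec_mul (F.el_mem v) (F.el_mem w), F.vec_el, F.vec_el]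
  have h := F.chi_spec hy hm (by rw [hvec, F.act_add hy, hv, hw])
  rw [hvec, F.psi_mul hy (F.el_mem v) (F.el_mem w), F.chi_spec hy (F.el_mem w) (by rw [F.vec_el, hw]),
    F.chi_spec hy (F.el_mem v) (by rw [F.vec_el, hv]), F.vec_el, F.vec_el, F.vec_Zc (zp_mem (mem_zpowers _) _),
    show ω v 0 = 0 by simp [ω, pl], zp_zero, one_mul] at h
  rw [← h, zp_add F.z_cube]
  exact (F.comm_Q_Zc (F.Zc_le (zp_mem (mem_zpowers _) _)) (zp_mem (mem_zpowers _) _)).eq

theorem commute_iff_chi {y q : G} (hy : Commute y F.z) (hq : q ∈ F.Q) :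
    Commute q y ↔ F.act y (F.vec q) = F.vec q ∧ F.chi y (F.vec q) = 0 := by
  constructor
  · intro h
    have h1 : ⁅q, y⁆ = 1 := commutatorElement_eq_one_iff_commute.2 h
    have hf : F.act y (F.vec q) = F.vec q := by
      have := (F.psi_vec hy hq).2
      rw [h1, F.vec_one] at this
      exact (sub_eq_zero.1 this.symm).symm
    refine ⟨hf, zp_eq_one F.hz ?_⟩
    rw [← F.chi_spec hy hq hf, h1]
  · rintro ⟨hf, hc⟩
    rw [← commutatorElement_eq_one_iff_commute, F.chi_spec hy hq hf, hc, zp_zero]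

theorem ω_fix {y : G} (hy : Commute y F.z) {v : V} (hv : F.act y v = v) (w : V) : ω v (w - F.act y w) = 0 := by
  have h := F.act_form hy v w
  rw [hv] at h
  rw [sub_eq_add_neg, ω_add_right, show -F.act y w = (-1 : ZMod 3) • F.act y w by simp, ω_smul_right, h]
  ring

theorem act_lin {y : G} (hy : Commute y F.z) {n : ℕ} (f : Fin n → V) (c : Fin n → ZMod 3) :
    F.act y (lin f c) = lin (fun a => F.act y (f a)) c := by
  show F.actHom hy (lin f c) = _
  simp only [lin, map_sum, ZMod.map_smul]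
  rfl

theorem fix_lin {y : G} (hy : Commute y F.z) {n : ℕ} {f : Fin n → V} (hf : ∀ a, F.act y (f a) = f a)
    (c : Fin n → ZMod 3) : F.act y (lin f c) = lin f c := by
  rw [F.act_lin hy]; exact congrArg (fun g => lin g c) (funext hf)

theorem chi_lin {y : G} (hy : Commute y F.z) {n : ℕ} {f : Fin n → V} (hf : ∀ a, F.act y (f a) = f a)
    (c : Fin n → ZMod 3) : F.chi y (lin f c) = ∑ a, c a * F.chi y (f a) := by
  rw [additive_sum (fun c => F.chi y (lin f c))
    (fun c d => by rw [lin_add, F.chi_add hy (F.fix_lin hy hf c) (F.fix_lin hy hf d)]) c]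
  exact Finset.sum_congr rfl fun a _ => by rw [lin_single]

/-- When `chi` does not vanish, everything above a commutator is a commutator. -/
theorem exists_psi {y : G} (hy : Commute y F.z) {v0 : V} (hv0 : F.act y v0 = v0) (hne : F.chi y v0 ≠ 0) {d : G}
    (hd : d ∈ F.Q) {S : V} (hS : S - F.act y S = F.vec d) : ∃ q ∈ F.Q, ⁅q, y⁆ = d := by
  have hpv := F.psi_vec hy (F.el_mem S)
  rw [F.vec_el, hS] at hpv
  obtain ⟨j, hj⟩ := F.exists_zp (F.div_mem_Zc hd hpv.1 hpv.2.symm)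
  rw [mul_inv_eq_iff_eq_mul] at hj
  have hfix : F.act y ((j * (F.chi y v0)⁻¹) • v0) = (j * (F.chi y v0)⁻¹) • v0 := by rw [F.act_smul hy, hv0]
  have hchi : F.chi y ((j * (F.chi y v0)⁻¹) • v0) = j := by
    have h := F.chi_lin hy (n := 1) (f := fun _ => v0) (fun _ => hv0) (fun _ => j * (F.chi y v0)⁻¹)
    simp only [lin, Fin.sum_univ_one] at h
    rw [h, mul_assoc, inv_mul_cancel₀ hne, mul_one]
  refine ⟨F.el ((j * (F.chi y v0)⁻¹) • v0) * F.el S, mul_mem (F.el_mem _) (F.el_mem _), ?_⟩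
  rw [F.psi_mul hy (F.el_mem _) (F.el_mem _), F.vec_el, hpv.2, ← hS, F.ω_fix hy hfix, zp_zero, one_mul,
    F.chi_spec hy (F.el_mem ((j * (F.chi y v0)⁻¹) • v0)) (by rw [F.vec_el, hfix]), F.vec_el, hchi, hj]
  exact (F.comm_Q_Zc hpv.1 (zp_mem (mem_zpowers _) _)).eq

end Frame

end Cfsg.Lib.Fi23Three
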