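import Mathlib

/-!
# A 3-centraliser of type Fi₂₃: small facts on quadrics and functionals over the field with three elements
-/

set_option autoImplicit false
set_option linter.unusedSectionVars false
set_option maxRecDepth 100000
set_option synthInstance.maxSize 8000

namespace Cfsg.Lib.Fi23Three

/-- The quadric of rank one. -/
def d3 (β : ZMod 3) (c : Fin 3 → ZMod 3) : ZMod 3 := 2 * β * c 0 * (c 0 - 1)

/-- The quadric of plus type. -/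
def d4 (c : Fin 4 → ZMod 3) : ZMod 3 := c 0 * c 3 + 2 * c 1 * c 2

theorem d3_add (β : ZMod 3) (c d : Fin 3 → ZMod 3) : d3 β (c + d) = d3 β c + d3 β d + β * c 0 * d 0 := by
  simp only [d3, Pi.add_apply]
  have h3 : (3 : ZMod 3) = 0 := rfl
  linear_combination (β * c 0 * d 0) * h3

theorem d4_add (c d : Fin 4 → ZMod 3) :
    d4 (c + d) = d4 c + d4 d + (c 0 * d 3 + c 3 * d 0 + 2 * c 1 * d 2 + 2 * c 2 * d 1) := by
  simp only [d4, Pi.add_apply]; ring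

theorem d3_plane : ∀ β : ZMod 3, β ≠ 0 → ∀ n m : (Fin 3 → ZMod 3) × ZMod 3, n ≠ 0 → (∀ i : ZMod 3, m ≠ i • n) →
    ∃ i j : ZMod 3, i • n + j • m ≠ 0 ∧ ((i • n + j • m).1 = 0 ∨ (i • n + j • m).2 = d3 β (i • n + j • m).1) := by
  decide +kernel

theorem d3_line : ∀ β : ZMod 3, β ≠ 0 → ∀ n a : (Fin 3 → ZMod 3) × ZMod 3, n ≠ 0 → n.1 ≠ 0 → n.2 ≠ d3 β n.1 →
    (2 : ZMod 3) * n.2 ≠ d3 β ((2 : ZMod 3) • n.1) → (∀ i : ZMod 3, a ≠ i • n) →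
    ∃ s : ZMod 3, (a + s • n).2 = d3 β (a + s • n).1 ∨ (-a + s • n).2 = d3 β (-a + s • n).1 := by
  decide +kernel

theorem d4_plane : ∀ a b k c d l : ZMod 3, (a ≠ 0 ∨ b ≠ 0) → (c ≠ 0 ∨ d ≠ 0) → ∃ i j : ZMod 3,
    ((i * a ≠ 0 ∨ i * b ≠ 0) ∨ (j * c ≠ 0 ∨ j * d ≠ 0)) ∧ i * k + j * l = d4 ![i * a, i * b, j * c, j * d] := by
  decide +kernel

theorem card_ker3 : ∀ χ : Fin 3 → ZMod 3, 9 ≤ Fintype.card {c : Fin 3 → ZMod 3 // ∑ a, c a * χ a = 0} := by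
  decide +kernel

theorem card_ker4 : ∀ χ : Fin 4 → ZMod 3, 27 ≤ Fintype.card {c : Fin 4 → ZMod 3 // ∑ a, c a * χ a = 0} := by
  decide +kernel

theorem ker_nondeg : ∀ χ : Fin 4 → ZMod 3, χ 0 ≠ 0 ∨ χ 1 ≠ 0 ∨ χ = 0 → ∃ c d : Fin 4 → ZMod 3,
    ∑ a, c a * χ a = 0 ∧ ∑ a, d a * χ a = 0 ∧ c 2 * d 3 - c 3 * d 2 ≠ 0 := by
  decide +kernel

end Cfsg.Lib.Fi23Three
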