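import Cfsg.Agent.Lib.Fi23Three.Pt.Out
import Cfsg.Agent.Lib.Fi23Three.Pt.Fixed
import Cfsg.Agent.Lib.Fi23Three.Pt.Cert
import Cfsg.Agent.Lib.Fi23Three.Pt.Quadric

/-!
# A 3-centraliser of type Fi₂₃: a non-commuting pair in the centraliser of an outer conjugate

A non-commuting pair in `C_Q(y)` pulls back to a code commutator, which has the fourth type. For the second,
third and sixth type either such a pair exists or there is an elementary abelian group of 27 translations.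
-/

set_option autoImplicit false
set_option linter.unusedSectionVars false
set_option linter.style.haveILetI false
set_option maxRecDepth 4000

namespace Cfsg.Lib.Fi23Three

open Subgroup
open scoped commutatorElement
open Cfsg.Lib.U6Three (zp zp_add zp_zero zp_one zp_inv zp_mem zp_comm zp_eq_one)

variable {G : Type*} [Group G] [Finite G] {D : Data G}

namespace Data

/-- Two elements of `Q` that centralise an outer conjugate and do not commute give the fourth type. -/
theorem nonab_type (hn : D.NoPt) {y a b : G} (hy : D.Out y) (ha : a ∈ D.Q) (hb : b ∈ D.Q) (hay : Commute a y)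
    (hby : Commute b y) (hab : ¬ Commute a b) : D.HasType 3 := by
  obtain ⟨g, hg⟩ := hy.exists_pull
  let T : Subgroup G := D.Q ⊓ centralizer ({y} : Set G)
  have hmem : ∀ {t : G}, t ∈ D.Q → Commute t y → t ∈ T := fun h1 h2 =>
    ⟨h1, mem_centralizer_singleton_iff.2 h2.eq⟩
  obtain ⟨h, hh, hS⟩ := exists_codes hg T inf_le_left fun t ht => mem_centralizer_singleton_iff.1 ht.2
  let φ : G →* G := (MulAut.conj h).toMonoidHom.comp (MulAut.conj g⁻¹).toMonoidHom
  have hφ : ∀ x, φ x = h * (g⁻¹ * x * g) * h⁻¹ := fun x => by simp [φ]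
  have hTa := hmem ha hay
  have hTb := hmem hb hby
  have hTc : ⁅a, b⁆ ∈ T := by
    rw [commutatorElement_def]
    exact mul_mem (mul_mem (mul_mem hTa hTb) (inv_mem hTa)) (inv_mem hTb)
  have hS' : ∀ t ∈ T, D.InS (φ t) := fun t ht => by rw [hφ]; exact hS t ht
  have hsa := hS' a hTa
  have hsb := hS' b hTb
  have hsc := hS' _ hTc
  have hcode : D.code (φ ⁅a, b⁆) = ccomm (D.code (φ a)) (D.code (φ b)) := by
    have e : φ ⁅a, b⁆ = φ a * φ b * ((φ a)⁻¹ * (φ b)⁻¹) := by
      rw [map_commutatorElement, commutatorElement_def]; group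
    obtain ⟨h1, e1⟩ := inS_mul hsa hsb
    obtain ⟨h2, e2⟩ := inS_inv hsa
    obtain ⟨h3, e3⟩ := inS_inv hsb
    obtain ⟨h4, e4⟩ := inS_mul h2 h3
    rw [e, (inS_mul h1 h4).2, e1, e4, e2, e3]
    rfl
  have hcent : ∀ t ∈ T, cmul (D.code (φ ⁅a, b⁆)) (D.code (φ t)) = cmul (D.code (φ t)) (D.code (φ ⁅a, b⁆)) := by
    intro t ht
    rw [← (inS_mul hsc (hS' t ht)).2, ← (inS_mul (hS' t ht) hsc).2, ← map_mul, ← map_mul,
      (D.toFrame.comm_Q_Zc ht.1 (D.comm_Q a ha b hb)).eq]
  have hw : D.Out (φ D.z) := by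
    rw [hφ]; exact (pull_z hn hy hg).conj hh
  have ho : D.Out (φ ⁅a, b⁆) := by
    obtain ⟨k, hk⟩ := D.toFrame.exists_zp (D.comm_Q a ha b hb)
    have hk0 : k ≠ 0 := fun e => hab (commutatorElement_eq_one_iff_commute.1 (by rw [hk, e, zp_zero]))
    rcases (show ∀ k : ZMod 3, k ≠ 0 → k = 1 ∨ k = -1 by decide) k hk0 with rfl | rfl
    · rw [hk, zp_one]; exact hw
    · rw [hk, ← zp_inv D.toFrame.z_cube, zp_one, map_inv]; exact hw.inv
  rcases ccomm_central _ _ (hcode ▸ hcent a hTa) (hcode ▸ hcent b hTb) with e | e | e <;> rw [← hcode] at e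
  · exact absurd (mem_Q_of_code hsc e) ho.2.1
  · exact hasType_of_code ho hsc (Or.inl e)
  · exact hasType_of_code ho hsc (Or.inr e)

/-- The common argument for the types whose fixed space has a radical of two commutator directions. -/
theorem type_pair_of (hn : D.NoPt) {j : Fin 6} {y : G} (hy : D.Out y)
    (hact : ∀ v, D.toFrame.act y v = ev (SM (rep j)) v) (K : Cert 4 j) (pre : Fin 2 → V)
    (hpre : ∀ a : Fin 2, pre a - ev (SM (rep j)) (pre a) = K.f (Fin.castLE (by omega) a)) {e : ZMod 3} (he : e ≠ 0)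
    (hform : ∀ a b : Fin 4, ω (K.f a) (K.f b) = if a = 2 ∧ b = 3 then e else if a = 3 ∧ b = 2 then -e else 0) :
    D.HasType 0 ∨ D.HasType 3 := by
  have hfix : ∀ a, D.toFrame.act y (K.f a) = K.f a := fun a => by rw [hact, K.hfix]
  have hω : ∀ c d : Fin 4 → ZMod 3, ω (lin K.f c) (lin K.f d) = e * (c 2 * d 3 - c 3 * d 2) := by
    intro c d
    rw [ω_lin]
    simp [Fin.sum_univ_four, hform]
    ring
  have hlc : ∀ c : Fin 4 → ZMod 3, ∑ a, c a * D.toFrame.chi y (K.f a) = 0 →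
      Commute (D.toFrame.el (lin K.f c)) y := fun c hc =>
    (D.toFrame.commute_iff_chi hy.1 (D.toFrame.el_mem _)).2
      ⟨by rw [D.toFrame.vec_el, D.toFrame.fix_lin hy.1 hfix],
       by rw [D.toFrame.vec_el, D.toFrame.chi_lin hy.1 hfix, hc]⟩
  by_cases hχ : D.toFrame.chi y (K.f 0) ≠ 0 ∨ D.toFrame.chi y (K.f 1) ≠ 0 ∨ (fun a => D.toFrame.chi y (K.f a)) = 0
  · obtain ⟨c, d, hc, hd, hne⟩ := ker_nondeg (fun a => D.toFrame.chi y (K.f a)) hχ
    refine Or.inr (nonab_type hn hy (D.toFrame.el_mem _) (D.toFrame.el_mem _) (hlc c hc) (hlc d hd) fun hcd => ?_)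
    rw [D.toFrame.commute_iff (D.toFrame.el_mem _) (D.toFrame.el_mem _), D.toFrame.vec_el, D.toFrame.vec_el, hω] at hcd
    exact mul_ne_zero he hne hcd
  simp only [not_or, not_not] at hχ
  obtain ⟨h0, h1, h2⟩ := hχ
  obtain ⟨i, hi⟩ := Function.ne_iff.1 h2
  let T : Subgroup G :=
    { carrier := {q | q ∈ D.Q ∧ ∃ c : Fin 4 → ZMod 3, c 2 = 0 ∧ c 3 = 0 ∧ D.toFrame.vec q = lin K.f c}
      one_mem' := ⟨D.Q.one_mem, 0, rfl, rfl, by rw [D.toFrame.vec_one]; simp [lin]⟩
      mul_mem' := by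
        rintro p q ⟨hp, c, hc2, hc3, ec⟩ ⟨hq, d, hd2, hd3, ed⟩
        exact ⟨mul_mem hp hq, c + d, by simp [hc2, hd2], by simp [hc3, hd3],
          by rw [D.toFrame.vec_mul hp hq, ec, ed, lin_add]⟩
      inv_mem' := by
        rintro p ⟨hp, c, hc2, hc3, ec⟩
        exact ⟨inv_mem hp, -c, by simp [hc2], by simp [hc3],
          by rw [D.toFrame.vec_inv hp, ec]; simp [lin, Finset.sum_neg_distrib]⟩ }
  refine Or.inl (tr_group hn hy T (fun t ht => ht.1) ?_ ?_ ?_ ?_).2
  · rintro t ⟨ht, c, hc2, hc3, ec⟩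
    refine (D.toFrame.commute_iff_chi hy.1 ht).2 ⟨by rw [ec, D.toFrame.fix_lin hy.1 hfix], ?_⟩
    rw [ec, D.toFrame.chi_lin hy.1 hfix, Fin.sum_univ_four, h0, h1, hc2, hc3]
    simp
  · rintro s ⟨hs, c, hc2, hc3, ec⟩ t ⟨ht, d, hd2, hd3, ed⟩
    rw [D.toFrame.commute_iff hs ht, ec, ed, hω, hc2, hc3]
    simp
  · rintro t ⟨ht, c, hc2, hc3, ec⟩
    refine D.toFrame.exists_psi hy.1 (hfix i) hi ht (S := c 0 • pre 0 + c 1 • pre 1) ?_
    have p0 : pre 0 - ev (SM (rep j)) (pre 0) = K.f 0 := hpre 0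
    have p1 : pre 1 - ev (SM (rep j)) (pre 1) = K.f 1 := hpre 1
    rw [D.toFrame.act_add hy.1, D.toFrame.act_smul hy.1, D.toFrame.act_smul hy.1, hact, hact, ec,
      add_sub_add_comm, ← smul_sub, ← smul_sub, p0, p1]
    simp [lin, Fin.sum_univ_four, hc2, hc3]
  · have hv : ∀ p : ZMod 3 × ZMod 3 × ZMod 3,
        D.toFrame.vec (zp D.z p.2.2 * D.toFrame.el (lin K.f ![p.1, p.2.1, 0, 0])) = lin K.f ![p.1, p.2.1, 0, 0] :=
      fun p => by
        rw [D.toFrame.vec_mul (zp_mem D.z_mem _) (D.toFrame.el_mem _),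
          D.toFrame.vec_Zc (zp_mem (mem_zpowers _) _), zero_add, D.toFrame.vec_el]
    let f : ZMod 3 × ZMod 3 × ZMod 3 → T := fun p =>
      ⟨zp D.z p.2.2 * D.toFrame.el (lin K.f ![p.1, p.2.1, 0, 0]),
        mul_mem (zp_mem D.z_mem _) (D.toFrame.el_mem _), _, rfl, rfl, hv p⟩
    have hf : Function.Injective f := by
      intro p q epq
      have e1 := congrArg Subtype.val epq
      have e2 := congrArg D.toFrame.vec e1
      simp only [f, hv] at e2
      have hadd := lin_add K.f (![p.1, p.2.1, 0, 0] - ![q.1, q.2.1, 0, 0]) ![q.1, q.2.1, 0, 0]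
      rw [sub_add_cancel, e2] at hadd
      have hc := sub_eq_zero.1 (K.indep (left_eq_add.1 (hadd.trans (add_comm _ _))))
      simp only [f] at e1
      rw [hc] at e1
      exact Prod.ext (congrFun hc 0) (Prod.ext (congrFun hc 1) (D.toFrame.zp_z_inj (mul_right_cancel e1)))
    refine le_trans (le_of_eq ?_) (Nat.card_le_card_of_injective f hf)
    simp

/-- The second, third and sixth type lead to the first or to the fourth. -/
theorem type_pair (hn : D.NoPt) {j : Fin 6} (hj : j = 1 ∨ j = 2 ∨ j = 5) (h : D.HasType j) :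
    D.HasType 0 ∨ D.HasType 3 := by
  obtain ⟨y, hy, hact⟩ := h
  rcases hj with rfl | rfl | rfl
  · exact type_pair_of hn hy hact cert1 pre1 pre1_spec (e := 2) (by decide) (fun a b => by rw [form1]; rfl)
  · exact type_pair_of hn hy hact cert2 pre2 pre2_spec (e := 1) (by decide) (fun a b => by rw [form2]; rfl)
  · exact type_pair_of hn hy hact cert5 pre5 pre5_spec (e := 1) (by decide) (fun a b => by rw [form5]; rfl)

end Data

end Cfsg.Lib.Fi23Three
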