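import Cfsg.Agent.Lib.Fi23Three.Pt.Coords
import Cfsg.Agent.Lib.Fi23Three.Pt.Cert
import Cfsg.Agent.Lib.Fi23Three.Pt.Quadric

/-!
# A 3-centraliser of type Fi₂₃: the classes with isotropic fixed space

A transvection on one factor is impossible, and an element with three nontrivial factors gives one.
-/

set_option autoImplicit false
set_option linter.unusedSectionVars false
set_option linter.style.haveILetI false
set_option maxRecDepth 4000

namespace Cfsg.Lib.Fi23Three

open Subgroup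
open scoped commutatorElement
open Cfsg.Lib.U6Three (zp zp_add zp_zero zp_one zp_inv zp_mem zp_comm zp_eq_one)

variable {G : Type*} [Group G] [Finite G] {D : Data G}

theorem smul_mem_addSubgroup {M : Type*} [AddCommGroup M] [Module (ZMod 3) M] (K : AddSubgroup M) {n : M}
    (hn : n ∈ K) (i : ZMod 3) : i • n ∈ K := by
  rw [← ZMod.natCast_zmod_val i, Nat.cast_smul_eq_nsmul]
  exact K.nsmul_mem hn _

/-- With a nonzero functional the whole fixed part consists of translations. -/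
theorem Data.chi_group (hn : D.NoPt) {n : ℕ} {j : Fin 6} (K : Cert n j) {y : G} (hy : D.Out y)
    (hact : ∀ v, D.toFrame.act y v = ev (SM (rep j)) v) (s : Fin n → V)
    (hs : ∀ a, s a - ev (SM (rep j)) (s a) = K.f a) (hiso : ∀ a b, ω (K.f a) (K.f b) = 0) {a0 : Fin n}
    (ha0 : D.toFrame.chi y (K.f a0) ≠ 0) {k : ℕ} (hk9 : 9 ≤ k)
    (hk : ∀ χ : Fin n → ZMod 3, k ≤ Fintype.card {c : Fin n → ZMod 3 // ∑ a, c a * χ a = 0}) :
    3 * k ≤ 27 ∧ D.HasType 0 := by
  classical
  have hy1 := hy.1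
  have hfix : ∀ a, D.toFrame.act y (K.f a) = K.f a := fun a => by rw [hact]; exact K.hfix a
  let T : Subgroup G :=
    { carrier := {q | q ∈ D.Q ∧ Commute q y}
      mul_mem' := fun ha hb => ⟨mul_mem ha.1 hb.1, ha.2.mul_left hb.2⟩
      one_mem' := ⟨one_mem _, Commute.one_left y⟩
      inv_mem' := fun ha => ⟨inv_mem ha.1, ha.2.inv_left⟩ }
  have hvec : ∀ q ∈ T, ∃ c, D.toFrame.vec q = lin K.f c := fun q hq =>
    K.span (by rw [← hact]; exact ((D.toFrame.commute_iff_chi hy1 hq.1).1 hq.2).1)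
  have hab : ∀ p ∈ T, ∀ q ∈ T, Commute p q := fun p hp q hq => by
    obtain ⟨c, hc⟩ := hvec p hp
    obtain ⟨d, hd⟩ := hvec q hq
    rw [D.toFrame.commute_iff hp.1 hq.1, hc, hd, ω_lin]
    simp [hiso]
  have htr : ∀ q ∈ T, D.IsTr y q := fun q hq => by
    obtain ⟨c, hc⟩ := hvec q hq
    refine D.toFrame.exists_psi hy1 (hfix a0) ha0 hq.1 (S := lin s c) ?_
    rw [hc, D.toFrame.act_lin hy1]
    simp only [lin, ← Finset.sum_sub_distrib, ← smul_sub, hact, hs]
  let χ : Fin n → ZMod 3 := fun a => D.toFrame.chi y (K.f a)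
  let F : {c : Fin n → ZMod 3 // ∑ a, c a * χ a = 0} × ZMod 3 → T := fun p =>
    ⟨zp D.z p.2 * D.toFrame.el (lin K.f p.1.1), mul_mem (D.toFrame.Zc_le (zp_mem (mem_zpowers _) _)) (D.toFrame.el_mem _),
      ((D.toFrame.comm_Zc hy1 (zp_mem (mem_zpowers _) _)).symm).mul_left
        ((D.toFrame.commute_iff_chi hy1 (D.toFrame.el_mem _)).2
          ⟨by rw [D.toFrame.vec_el, D.toFrame.fix_lin hy1 hfix],
            by rw [D.toFrame.vec_el, D.toFrame.chi_lin hy1 hfix]; exact p.1.2⟩)⟩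
  have hF : Function.Injective F := fun p q e => by
    have e' : zp D.z p.2 * D.toFrame.el (lin K.f p.1.1) = zp D.z q.2 * D.toFrame.el (lin K.f q.1.1) :=
      congrArg (fun t : T => (t : G)) e
    have h := congrArg D.toFrame.vec e'
    rw [D.toFrame.vec_mul (D.toFrame.Zc_le (zp_mem (mem_zpowers _) _)) (D.toFrame.el_mem _),
      D.toFrame.vec_mul (D.toFrame.Zc_le (zp_mem (mem_zpowers _) _)) (D.toFrame.el_mem _),
      D.toFrame.vec_Zc (zp_mem (mem_zpowers _) _), D.toFrame.vec_Zc (zp_mem (mem_zpowers _) _), zero_add, zero_add,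
      D.toFrame.vec_el, D.toFrame.vec_el] at h
    have hd : p.1.1 - q.1.1 = 0 := K.indep (by
      rw [sub_eq_add_neg, lin_add, lin_neg, h, add_neg_cancel])
    have h1 : p.1.1 = q.1.1 := sub_eq_zero.1 hd
    rw [h1] at e'
    exact Prod.ext (Subtype.ext h1) (D.toFrame.zp_z_inj (mul_right_cancel e'))
  have hc := Nat.card_le_card_of_injective F hF
  rw [Nat.card_prod, Nat.card_eq_fintype_card (α := {c : Fin n → ZMod 3 // ∑ a, c a * χ a = 0}), Nat.card_zmod] at hc
  have := hk χ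
  obtain ⟨h1, h2⟩ := D.tr_group hn hy T (fun q hq => hq.1) (fun q hq => hq.2) hab htr (by omega)
  exact ⟨by omega, h2⟩

/-- The codes of the pulled back fixed part when the functional vanishes. -/
theorem Data.exists_kernel (hn : D.NoPt) {n : ℕ} {j : Fin 6} (K : Cert n j) {y : G} (hy : D.Out y)
    (hact : ∀ v, D.toFrame.act y v = ev (SM (rep j)) v) (s : Fin n → V)
    (hs : ∀ a, s a - ev (SM (rep j)) (s a) = K.f a) (hiso : ∀ a b, ω (K.f a) (K.f b) = 0)
    (h0 : ∀ a, D.toFrame.chi y (K.f a) = 0) (δ : (Fin n → ZMod 3) → ZMod 3) (hδ0 : ∀ a, δ (Pi.single a 1) = 0)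
    (hδ : ∀ c d, δ (c + d) = δ c + δ d + ω (lin s c) (lin K.f d)) :
    ∃ (κ : (Fin n → ZMod 3) × ZMod 3 → Code) (N : AddSubgroup ((Fin n → ZMod 3) × ZMod 3)),
      (∀ u, u ∈ N ↔ κ u = cone) ∧ (∀ u v, κ (u + v) = cmul (κ u) (κ v)) ∧
      (∀ p ∈ Set.range κ, ∀ q ∈ Set.range κ, cmul p q = cmul q p) ∧
      Nat.card ((Fin n → ZMod 3) × ZMod 3) ≤ Nat.card (Set.range κ) * Nat.card N ∧
      (∀ u ∈ N, u.1 = 0 → u = 0) ∧ (∀ u ∈ N, u.2 = δ u.1 → u = 0) ∧
      (∀ c, κ (c, δ c) = rep 0 ∨ κ (c, δ c) = cinv (rep 0) → D.HasType 0) ∧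
      ((∀ p : Code, p.2 = 0 → p ∈ Set.range κ) → Nat.card N ≤ 3) := by
  classical
  have hy1 := hy.1
  have hfix : ∀ a, D.toFrame.act y (K.f a) = K.f a := fun a => by rw [hact]; exact K.hfix a
  obtain ⟨E, hEadd, hEQ, hEvec, hEz, hEtr⟩ :=
    D.exists_coords hy1 K.f s (fun a => by rw [hact, hs]) hfix h0 hiso δ hδ0 hδ
  obtain ⟨g, hg⟩ := hy.exists_pull
  let T : Subgroup G :=
    { carrier := {q | q ∈ D.Q ∧ Commute q y}
      mul_mem' := fun ha hb => ⟨mul_mem ha.1 hb.1, ha.2.mul_left hb.2⟩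
      one_mem' := ⟨one_mem _, Commute.one_left y⟩
      inv_mem' := fun ha => ⟨inv_mem ha.1, ha.2.inv_left⟩ }
  obtain ⟨h, hh, hS⟩ := Data.exists_codes hg T (fun q hq => hq.1) (fun q hq => hq.2)
  let W : (Fin n → ZMod 3) × ZMod 3 → G := fun u => h * (g⁻¹ * E u * g) * h⁻¹
  have hW : ∀ u, D.InS (W u) := fun u => hS _ (hEQ u)
  have hWadd : ∀ u v, W (u + v) = W u * W v := fun u v => by simp only [W, hEadd]; group
  let κ : (Fin n → ZMod 3) × ZMod 3 → Code := fun u => D.code (W u)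
  have hκadd : ∀ u v, κ (u + v) = cmul (κ u) (κ v) := fun u v => by
    show D.code _ = _; rw [hWadd, (Data.inS_mul (hW u) (hW v)).2]
  have hW0 : W 0 = 1 := by
    have := hWadd 0 0
    rw [add_zero] at this
    exact left_eq_mul.1 this
  have hκ0 : κ 0 = cone := by show D.code _ = _; rw [hW0]; exact Data.inS_one.2
  have hκQ : ∀ u, κ u = cone → W u ∈ D.Q := fun u hu => Data.mem_Q_of_code (hW u) hu
  have hE1 : ∀ u, E u = 1 → u = 0 := fun u hu => by
    have h1 : u.1 = 0 := K.indep (by rw [← hEvec, hu, D.toFrame.vec_one])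
    obtain ⟨c, k⟩ := u
    subst h1
    rw [hEz] at hu
    rw [zp_eq_one D.hz hu]; rfl
  have hzc : ∀ u, W u ∈ zpowers D.z → u = 0 := fun u hu => hE1 u (by
    refine Data.pull_eq_one hy hg (hEQ u).1 ?_
    have e : g⁻¹ * E u * g = h⁻¹ * W u * h := by simp [W, mul_assoc]
    rw [e, ((D.toFrame.comm_Zc hh.inv_left hu).eq), mul_assoc, inv_mul_cancel, mul_one]
    exact hu)
  let N : AddSubgroup ((Fin n → ZMod 3) × ZMod 3) :=
    { carrier := {u | κ u = cone}
      add_mem' := fun {u v} hu hv => by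
        show κ (u + v) = cone
        rw [hκadd, show κ u = cone from hu, show κ v = cone from hv, (cmul_cone cone).1]
      zero_mem' := hκ0
      neg_mem' := fun {u} hu => by
        show κ (-u) = cone
        have h1 := hκadd u (-u)
        rw [add_neg_cancel, hκ0, show κ u = cone from hu, (cmul_cone _).2] at h1
        exact h1.symm }
  have hA : ∀ u ∈ N, u.1 = 0 → u = 0 := by
    rintro ⟨c, k⟩ hu (rfl : c = 0)
    have hm := hκQ _ hu
    obtain ⟨hwz, hwQ, -⟩ := (Data.pull_z hn hy hg).conj hh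
    rcases (show ∀ k : ZMod 3, k = 0 ∨ k = 1 ∨ k = 2 by decide) k with rfl | rfl | rfl
    · rfl
    · refine absurd ?_ hwQ
      simpa [W, hEz, zp_one] using hm
    · refine absurd ?_ hwQ
      have e : W (0, 2) * W (0, 2) = h * (g⁻¹ * D.z * g) * h⁻¹ := by
        rw [← hWadd, Prod.mk_add_mk, add_zero, show (2 : ZMod 3) + 2 = 1 from rfl]
        simp [W, hEz, zp_one]
      exact e ▸ mul_mem hm hm
  have htr : ∀ c, E (c, δ c) ≠ 1 → ∃ y', D.Out y' ∧ ∃ hs : D.InS y', D.code y' = κ (c, δ c) := fun c hne => by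
    obtain ⟨y', ho, he⟩ := Data.pull_tr hn hy hg (hEQ _).1 (hEQ _).2 (hEtr c) hne
    have hct : Commute (g⁻¹ * E (c, δ c) * g) D.z := Data.pull_comm hg (hEQ _).2
    obtain ⟨a, b⟩ := Data.code_eq (p := κ (c, δ c)) ((hh.mul_left ho.1).mul_left hh.inv_left) fun v => by
      rw [D.toFrame.act_mul (hh.mul_left ho.1) hh.inv_left, D.toFrame.act_mul hh ho.1, he,
        ← D.toFrame.act_mul hh hct, ← D.toFrame.act_mul (hh.mul_left hct) hh.inv_left, Data.act_code (hW _)]
    exact ⟨_, ho.conj hh, a, b⟩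
  refine ⟨κ, N, fun u => Iff.rfl, hκadd, ?_, ?_, hA, ?_, ?_, ?_⟩
  · rintro _ ⟨u, rfl⟩ _ ⟨v, rfl⟩
    rw [← hκadd, ← hκadd, add_comm]
  · rw [← Nat.card_prod]
    let r : Set.range κ → (Fin n → ZMod 3) × ZMod 3 := fun p => p.2.choose
    have hr : ∀ p : Set.range κ, κ (r p) = p := fun p => p.2.choose_spec
    refine Nat.card_le_card_of_injective
      (fun u => ((⟨κ u, u, rfl⟩ : Set.range κ), (⟨u - r ⟨κ u, u, rfl⟩, ?_⟩ : N))) fun u v e => ?_
    · show κ _ = cone
      have h1 := hκadd (u - r ⟨κ u, u, rfl⟩) (r ⟨κ u, u, rfl⟩)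
      rw [sub_add_cancel, hr] at h1
      have h2 := congrArg (fun p => cmul p (cinv (κ u))) h1
      simp only [cmul_assoc, (cmul_cinv _).1, (cmul_cone _).1] at h2
      exact h2.symm
    · simp only [Prod.mk.injEq, Subtype.mk.injEq] at e
      obtain ⟨e1, e2⟩ := e
      have : (⟨κ u, u, rfl⟩ : Set.range κ) = ⟨κ v, v, rfl⟩ := e1
      rw [this] at e2
      exact sub_left_inj.1 e2
  · intro u hu e
    by_contra hne
    obtain ⟨c, k⟩ := u
    obtain rfl : k = δ c := e
    obtain ⟨y', ho, hs', hcode⟩ := htr c fun h1 => hne (hE1 _ h1)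
    exact ho.2.1 (Data.mem_Q_of_code hs' (hcode.trans hu))
  · intro c hc
    obtain ⟨y', ho, hs', hcode⟩ := htr c fun h1 => by
      have h2 := hE1 _ h1
      rw [h2, hκ0] at hc
      revert hc; decide
    exact Data.hasType_of_code ho hs' (by rwa [hcode])
  · intro hbase
    have hv : ∀ u ∈ N, ∃ c : ZMod 3, D.toFrame.vec (W u) = c • cert0.f 0 := by
      intro u hu
      have hq := hκQ u hu
      have hfx : ∀ p : Code, p.2 = 0 → ev (SM p) (D.toFrame.vec (W u)) = D.toFrame.vec (W u) := fun p hp => by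
        obtain ⟨v, rfl⟩ := hbase p hp
        rw [← Data.act_code (hW v), ← D.toFrame.vec_conj (hW v).1 hq, ← hWadd v u, add_comm, hWadd,
          mul_inv_cancel_right]
      obtain ⟨c, hc⟩ := cert0.span (hfx (rep 0) rfl)
      have h1 := hfx (cgen 1) rfl
      have h2 := hfx (cgen 2) rfl
      rw [hc] at h1 h2
      have h3 : ∀ c : Fin 4 → ZMod 3, ev (SM (cgen 1)) (lin cert0.f c) = lin cert0.f c →
          ev (SM (cgen 2)) (lin cert0.f c) = lin cert0.f c → c = Pi.single 0 (c 0) := by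
        decide +kernel
      refine ⟨c 0, ?_⟩
      rw [hc, h3 c h1 h2, lin_smul_self, Pi.single_eq_same]
    choose cf hcf using hv
    refine (Nat.card_le_card_of_injective (fun u : N => cf u.1 u.2) fun u v e => ?_).trans (Nat.card_zmod 3).le
    have e1 : D.toFrame.vec (W u.1) = D.toFrame.vec (W v.1) := by rw [hcf _ u.2, hcf _ v.2]; exact congrArg (· • _) e
    have hd := D.toFrame.div_mem_Zc (hκQ _ u.2) (hκQ _ v.2) e1
    have h2 : W (u.1 - v.1) * W v.1 = W u.1 := by rw [← hWadd, sub_add_cancel]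
    rw [← h2, mul_inv_cancel_right] at hd
    exact Subtype.ext (sub_eq_zero.1 (hzc _ hd))

theorem pair_form0 (c d : Fin 4 → ZMod 3) :
    ω (lin pre0 c) (lin cert0.f d) = c 0 * d 3 + c 3 * d 0 + 2 * c 1 * d 2 + 2 * c 2 * d 1 := by
  rw [ω_lin]
  simp only [Fin.sum_univ_four, pair0]
  simp [Fin.ext_iff]
  ring

/-- A transvection on one factor is impossible. -/
theorem Data.not_type_zero (hn : D.NoPt) : ¬ D.HasType 0 := by
  classical
  rintro ⟨y, hy, hact⟩
  by_cases hχ : ∃ a, D.toFrame.chi y (cert0.f a) ≠ 0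
  · obtain ⟨a, ha⟩ := hχ
    have := (D.chi_group hn cert0 hy hact pre0 pre0_spec form0 ha (k := 27) (by norm_num) card_ker4).1
    omega
  push Not at hχ
  obtain ⟨κ, N, hN, -, hcom, hcard, hA, hB, -, hbase⟩ := D.exists_kernel hn cert0 hy hact pre0 pre0_spec form0 hχ d4
    (by decide) (fun c d => by rw [d4_add, pair_form0])
  rw [Nat.card_prod, Nat.card_fun, Nat.card_zmod, Nat.card_fin] at hcard
  by_cases h10 : 9 < Nat.card N
  · have hpig : ∀ proj : (Fin 4 → ZMod 3) → ZMod 3 × ZMod 3, (∀ u v, proj (u - v) = proj u - proj v) →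
        ∃ u ∈ N, u ≠ 0 ∧ proj u.1 = 0 := by
      intro proj hp
      by_contra hcon
      push Not at hcon
      have := Nat.card_le_card_of_injective (fun u : N => proj u.1.1) fun u v e => by
        by_contra hne
        refine hcon (u.1 - v.1) (N.sub_mem u.2 v.2) (sub_ne_zero.2 fun e' => hne (Subtype.ext e')) ?_
        show proj (u.1.1 - v.1.1) = 0
        rw [hp]; exact sub_eq_zero.2 e
      rw [Nat.card_prod, Nat.card_zmod] at this
      omega
    obtain ⟨⟨u, k⟩, hu, hu0, hu1⟩ := hpig (fun c => (c 2, c 3)) fun _ _ => rfl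
    obtain ⟨⟨v, l⟩, hv, hv0, hv1⟩ := hpig (fun c => (c 0, c 1)) fun _ _ => rfl
    simp only [Prod.mk_eq_zero] at hu1 hv1
    have hnz : ∀ w : Fin 4 → ZMod 3, ∀ t : ZMod 3, ((w, t) : _ × ZMod 3) ∈ N → ((w, t) : _ × ZMod 3) ≠ 0 → w ≠ 0 :=
      fun w t hw h0 e => h0 (hA _ hw e)
    have h1 : u 0 ≠ 0 ∨ u 1 ≠ 0 := by
      by_contra hc
      push Not at hc
      exact hnz u k hu hu0 (funext fun i => by fin_cases i <;> simp [hc.1, hc.2, hu1.1, hu1.2])
    have h2 : v 2 ≠ 0 ∨ v 3 ≠ 0 := by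
      by_contra hc
      push Not at hc
      exact hnz v l hv hv0 (funext fun i => by fin_cases i <;> simp [hc.1, hc.2, hv1.1, hv1.2])
    obtain ⟨i, j, hne, he⟩ := d4_plane (u 0) (u 1) k (v 2) (v 3) l h1 h2
    have hw : i • ((u, k) : _ × ZMod 3) + j • (v, l) = (![i * u 0, i * u 1, j * v 2, j * v 3], i * k + j * l) := by
      refine Prod.ext (funext fun a => ?_) (by simp)
      fin_cases a <;> simp [hu1.1, hu1.2, hv1.1, hv1.2]
    have h0 := hB _ (N.add_mem (smul_mem_addSubgroup N hu i) (smul_mem_addSubgroup N hv j)) (by rw [hw]; exact he)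
    rw [hw, Prod.mk_eq_zero] at h0
    have h0' := h0.1
    rcases hne with (h | h) | (h | h)
    · exact h (congrFun h0' 0)
    · exact h (congrFun h0' 1)
    · exact h (congrFun h0' 2)
    · exact h (congrFun h0' 3)
  · have h27 : 27 ≤ Nat.card (Set.range κ) := by
      by_contra hlt
      have : Nat.card (Set.range κ) * Nat.card N ≤ 26 * 9 := Nat.mul_le_mul (by omega) (by omega)
      omega
    obtain ⟨-, hle, hfull⟩ := commuting_base hcom (by omega)
    have h3 := hbase (hfull h27)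
    have : Nat.card (Set.range κ) * Nat.card N ≤ 27 * 3 := Nat.mul_le_mul hle h3
    omega

/-- An element with three nontrivial factors gives a transvection on one factor. -/
theorem Data.type_full (hn : D.NoPt) {j : Fin 6} (K : Cert 3 j) (s : Fin 3 → V)
    (hs : ∀ a, s a - ev (SM (rep j)) (s a) = K.f a) (hiso : ∀ a b, ω (K.f a) (K.f b) = 0) (β : ZMod 3) (hβ : β ≠ 0)
    (hpair : ∀ a b, ω (s a) (K.f b) = if a = 0 ∧ b = 0 then β else 0) (hj : D.HasType j) : D.HasType 0 := by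
  classical
  obtain ⟨y, hy, hact⟩ := hj
  by_cases hχ : ∃ a, D.toFrame.chi y (K.f a) ≠ 0
  · obtain ⟨a, ha⟩ := hχ
    exact (D.chi_group hn K hy hact s hs hiso ha (k := 9) le_rfl card_ker3).2
  push Not at hχ
  obtain ⟨κ, N, hN, hadd, hcom, hcard, hA, hB, hsign, -⟩ := D.exists_kernel hn K hy hact s hs hiso hχ (d3 β)
    ((show ∀ (β : ZMod 3) (a : Fin 3), d3 β (Pi.single a 1) = 0 by decide) β) (fun c d => by
      rw [d3_add, ω_lin]
      simp only [Fin.sum_univ_three, hpair]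
      simp [Fin.ext_iff]
      ring)
  rw [Nat.card_prod, Nat.card_fun, Nat.card_zmod, Nat.card_fin] at hcard
  -- the kernel is a line
  have hline : ∀ u ∈ N, ∀ v ∈ N, u ≠ 0 → ∃ i : ZMod 3, v = i • u := by
    intro u hu v hv hu0
    by_contra hcon
    push Not at hcon
    obtain ⟨i, k, hne, h⟩ := d3_plane β hβ u v hu0 hcon
    have hm := N.add_mem (smul_mem_addSubgroup N hu i) (smul_mem_addSubgroup N hv k)
    rcases h with h | h
    · exact hne (hA _ hm h)
    · exact hne (hB _ hm h)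
  have h27le : Nat.card (Set.range κ) ≤ 27 := by
    by_contra hlt
    have := (commuting_base hcom (by omega)).2.1
    omega
  obtain ⟨u, hu, hu0⟩ : ∃ u ∈ N, u ≠ 0 := by
    by_contra hcon
    push Not at hcon
    have h1 : Nat.card N ≤ 1 := Finite.card_le_one_iff_subsingleton.2
      ⟨fun a b => Subtype.ext ((hcon a.1 a.2).trans (hcon b.1 b.2).symm)⟩
    have : Nat.card (Set.range κ) * Nat.card N ≤ 27 * 1 := Nat.mul_le_mul h27le h1
    omega
  have hN3 : Nat.card N ≤ 3 := by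
    have hs : Function.Surjective (fun i : ZMod 3 => (⟨i • u, smul_mem_addSubgroup N hu i⟩ : N)) := fun v => by
      obtain ⟨i, hi⟩ := hline u hu v.1 v.2 hu0
      exact ⟨i, Subtype.ext hi.symm⟩
    exact (Nat.card_le_card_of_surjective _ hs).trans (Nat.card_zmod 3).le
  have h27 : 27 ≤ Nat.card (Set.range κ) := by
    by_contra hlt
    have : Nat.card (Set.range κ) * Nat.card N ≤ 26 * 3 := Nat.mul_le_mul (by omega) hN3
    omega
  obtain ⟨a, ha⟩ := (commuting_base hcom (by omega)).2.2 h27 (rep 0) rfl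
  have hgood : ∀ i : ZMod 3, i ≠ 0 → (i • u).1 ≠ 0 ∧ (i • u).2 ≠ d3 β (i • u).1 := fun i hi => by
    have hm := smul_mem_addSubgroup N hu i
    have hne : i • u ≠ 0 := fun e => hu0 (by rw [← inv_smul_smul₀ hi u, e, smul_zero])
    exact ⟨fun e => hne (hA _ hm e), fun e => hne (hB _ hm e)⟩
  obtain ⟨g1, g2⟩ := hgood 1 one_ne_zero
  obtain ⟨-, g3⟩ := hgood 2 (by decide)
  rw [one_smul] at g1 g2
  have hκN : ∀ v w, w ∈ N → κ (v + w) = κ v := fun v w hw => by rw [hadd, (hN w).1 hw, (cmul_cone _).1]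
  obtain ⟨t, h | h⟩ := d3_line β hβ u a hu0 g1 g2 (by simpa using g3) (fun i e => by
    have h1 := (hN a).1 (e ▸ smul_mem_addSubgroup N hu i)
    rw [ha] at h1
    exact absurd h1 (by decide))
  · refine hsign (a + t • u).1 (Or.inl ?_)
    rw [← h, Prod.mk.eta, hκN _ _ (smul_mem_addSubgroup N hu t), ha]
  · refine hsign (-a + t • u).1 (Or.inr ?_)
    rw [← h, Prod.mk.eta, hκN _ _ (smul_mem_addSubgroup N hu t)]
    have h1 := hadd a (-a)
    rw [add_neg_cancel, (hN 0).1 N.zero_mem, ha] at h1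
    exact cinv_unique _ _ h1.symm

theorem Data.type_three (hn : D.NoPt) (h : D.HasType 3) : D.HasType 0 :=
  D.type_full hn cert3 pre3 pre3_spec form3 2 (by decide) pair3 h

theorem Data.type_four (hn : D.NoPt) (h : D.HasType 4) : D.HasType 0 :=
  D.type_full hn cert4 pre4 pre4_spec form4 1 (by decide) pair4 h

end Cfsg.Lib.Fi23Three
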