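import Cfsg.Agent.Lib.Fi23Three.Pt.Sylow

/-!
# A 3-centraliser of type Fi₂₃: conjugates of the central element outside `Q`

If no conjugate of `z` lies in `Q` outside the centre then a translation of such a conjugate pulls back to another
one, so that large abelian groups of translations give one acting as a transvection on one factor.
-/

set_option autoImplicit false
set_option linter.unusedSectionVars false
set_option linter.style.haveILetI false
set_option maxRecDepth 4000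

namespace Cfsg.Lib.Fi23Three

open Subgroup
open scoped commutatorElement
open Cfsg.Lib.U6Three (zp zp_add zp_zero zp_one zp_inv zp_mem zp_comm zp_eq_one)

variable {G : Type*} [Group G] [Finite G] (D : Data G)

/-- No conjugate of `z` lies in `Q` outside the centre. -/
def Data.NoPt : Prop := ∀ g, g * D.z * g⁻¹ ∈ D.Q → g * D.z * g⁻¹ ∈ zpowers D.z

/-- A conjugate of a generator of the centre in `C(z)` outside `Q`. -/
def Data.Out (y : G) : Prop :=
  Commute y D.z ∧ y ∉ D.Q ∧ ∃ g, g * D.z * g⁻¹ = y ∨ g * D.z * g⁻¹ = y⁻¹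

/-- A conjugate outside acting as the matrix of a representative. -/
def Data.HasType (j : Fin 6) : Prop := ∃ y, D.Out y ∧ ∀ v, D.toFrame.act y v = ev (SM (rep j)) v

/-- A translation of `y`. -/
def Data.IsTr (y d : G) : Prop := ∃ q ∈ D.Q, ⁅q, y⁆ = d

namespace Data

variable {D}

theorem Out.cube {y : G} (hy : D.Out y) : y ^ 3 = 1 := by
  obtain ⟨g, e | e⟩ := hy.2.2
  · rw [← e, conj_pow, D.toFrame.z_cube]; group
  · rw [← inv_inv y, ← e, inv_pow, conj_pow, D.toFrame.z_cube]; group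

theorem Out.inv {y : G} (hy : D.Out y) : D.Out y⁻¹ := by
  refine ⟨hy.1.inv_left, fun h => hy.2.1 (by simpa using D.Q.inv_mem h), ?_⟩
  obtain ⟨g, e | e⟩ := hy.2.2
  · exact ⟨g, Or.inr (by rw [e, inv_inv])⟩
  · exact ⟨g, Or.inl e⟩

theorem Out.conj {y h : G} (hy : D.Out y) (hh : Commute h D.z) : D.Out (h * y * h⁻¹) := by
  refine ⟨(hh.mul_left hy.1).mul_left hh.inv_left, fun hm => hy.2.1 ?_, ?_⟩
  · simpa [mul_assoc] using D.norm_Q h⁻¹ hh.inv_left _ hm
  · obtain ⟨g, e | e⟩ := hy.2.2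
    · exact ⟨h * g, Or.inl (by rw [← e]; group)⟩
    · exact ⟨h * g, Or.inr (by rw [show (h * y * h⁻¹)⁻¹ = h * y⁻¹ * h⁻¹ by group, ← e]; group)⟩

theorem Out.eq_one {y : G} (hy : D.Out y) {a : G} (ha : a ∈ D.Q) (h : a ∈ zpowers y) : a = 1 := by
  obtain ⟨k, hk⟩ := mem_zpowers_iff.1 h
  rw [← zpow_mod_orderOf] at hk
  have ho : orderOf y = 3 := orderOf_eq_prime (hp := ⟨Nat.prime_three⟩) hy.cube fun e => hy.2.1 (e ▸ D.Q.one_mem)
  rw [ho] at hk
  obtain ⟨r, hr⟩ : ∃ r, r = k % 3 := ⟨_, rfl⟩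
  have h1 := Int.emod_nonneg k (show (3 : ℤ) ≠ 0 by norm_num)
  have h2 := Int.emod_lt_of_pos k (show (0 : ℤ) < 3 by norm_num)
  push_cast at hk
  rw [← hr] at hk h1 h2
  interval_cases r
  · simpa using hk.symm
  · exact absurd (by rwa [show y = a by simpa using hk]) hy.2.1
  · refine absurd ?_ hy.2.1
    have e : y = (y ^ (2 : ℤ))⁻¹ := by
      refine eq_inv_of_mul_eq_one_left ?_
      rw [zpow_two, ← mul_assoc, ← pow_two, ← pow_succ, hy.cube]
    rw [e, hk]; exact D.Q.inv_mem ha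

/-- The conjugating element of an outer conjugate. -/
theorem Out.exists_pull {y : G} (hy : D.Out y) : ∃ g : G, (g⁻¹ * y * g = D.z ∨ g⁻¹ * y * g = D.z⁻¹) := by
  obtain ⟨g, e | e⟩ := hy.2.2
  · exact ⟨g, Or.inl (by rw [← e]; group)⟩
  · exact ⟨g, Or.inr (by rw [← inv_inv y, ← e]; group)⟩

variable {y g : G}

theorem pull_y_mem (hg : g⁻¹ * y * g = D.z ∨ g⁻¹ * y * g = D.z⁻¹) : g⁻¹ * y * g ∈ zpowers D.z := by
  rcases hg with e | e <;> rw [e]
  · exact mem_zpowers _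
  · exact inv_mem (mem_zpowers _)

theorem pull_comm (hg : g⁻¹ * y * g = D.z ∨ g⁻¹ * y * g = D.z⁻¹) {a : G} (ha : Commute a y) :
    Commute (g⁻¹ * a * g) D.z := by
  have h : Commute (g⁻¹ * a * g) (g⁻¹ * y * g) := by simpa using ha.map (MulAut.conj g⁻¹).toMonoidHom
  rcases hg with e | e <;> rw [e] at h
  · exact h
  · simpa using h.inv_right

theorem pull_eq_one (hy : D.Out y) (hg : g⁻¹ * y * g = D.z ∨ g⁻¹ * y * g = D.z⁻¹) {a : G} (ha : a ∈ D.Q)
    (h : g⁻¹ * a * g ∈ zpowers D.z) : a = 1 := by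
  refine hy.eq_one ha ?_
  obtain ⟨k, hk⟩ := mem_zpowers_iff.1 h
  have e : a = g * D.z ^ k * g⁻¹ := by rw [hk]; group
  rw [e, ← conj_zpow]
  refine zpow_mem ?_ k
  rcases hg with e' | e'
  · rw [show g * D.z * g⁻¹ = y by rw [← e']; group]; exact mem_zpowers _
  · rw [show g * D.z * g⁻¹ = y⁻¹ by rw [← inv_inv D.z, ← e']; group]; exact inv_mem (mem_zpowers _)

theorem pull_z (hn : D.NoPt) (hy : D.Out y) (hg : g⁻¹ * y * g = D.z ∨ g⁻¹ * y * g = D.z⁻¹) :
    D.Out (g⁻¹ * D.z * g) := by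
  refine ⟨pull_comm hg hy.1.symm, fun h => D.toFrame.z_ne ?_, g⁻¹, Or.inl (by group)⟩
  refine pull_eq_one hy hg D.z_mem ?_
  have h' := hn g⁻¹ (by rwa [inv_inv])
  rwa [inv_inv] at h'

/-- A translation pulls back to an outer conjugate. -/
theorem pull_tr (hn : D.NoPt) (hy : D.Out y) (hg : g⁻¹ * y * g = D.z ∨ g⁻¹ * y * g = D.z⁻¹) {d : G} (hd : d ∈ D.Q)
    (hc : Commute d y) (ht : D.IsTr y d) (h1 : d ≠ 1) :
    ∃ y', D.Out y' ∧ ∀ v, D.toFrame.act y' v = D.toFrame.act (g⁻¹ * d * g) v := by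
  obtain ⟨q, -, hq⟩ := ht
  have hzc := pull_y_mem hg
  have hcd := pull_comm hg hc
  have hcy := pull_comm hg (Commute.refl y)
  have e1 : g⁻¹ * (d * y) * g = (g⁻¹ * q * g) * (g⁻¹ * y * g) * (g⁻¹ * q * g)⁻¹ := by
    rw [← hq, commutatorElement_def]; group
  have e2 : g⁻¹ * (d * y) * g = (g⁻¹ * d * g) * (g⁻¹ * y * g) := by group
  have hcy' : Commute (g⁻¹ * (d * y) * g) D.z := pull_comm hg (hc.mul_left (Commute.refl y))
  have hnin : g⁻¹ * (d * y) * g ∉ D.Q := by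
    intro hm
    refine h1 (pull_eq_one hy hg hd ?_)
    have hzp : g⁻¹ * (d * y) * g ∈ zpowers D.z := by
      rcases hg with e | e <;> rw [e] at e1
      · exact e1 ▸ hn _ (e1 ▸ hm)
      · rw [← conj_inv] at e1
        exact e1 ▸ inv_mem (hn _ (inv_mem_iff.1 (e1 ▸ hm)))
    have hh : g⁻¹ * d * g = g⁻¹ * (d * y) * g * (g⁻¹ * y * g)⁻¹ := by group
    rw [hh]; exact mul_mem hzp (inv_mem hzc)
  refine ⟨_, ⟨hcy', hnin, g⁻¹ * q * g, ?_⟩, fun v => ?_⟩
  · rcases hg with e | e <;> rw [e] at e1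
    · exact Or.inl e1.symm
    · exact Or.inr (by rw [e1]; group)
  · rw [e2, D.toFrame.act_mul hcd hcy, D.toFrame.act_Q (D.toFrame.Zc_le hzc)]

/-- An outer conjugate with a coded action. -/
theorem hasType_of_code {y : G} (hy : D.Out y) (hs : D.InS y) {j : Fin 6}
    (h : D.code y = rep j ∨ D.code y = cinv (rep j)) : D.HasType j := by
  rcases h with e | e
  · exact ⟨y, hy, fun v => by rw [act_code hs, e]⟩
  · obtain ⟨h1, e1⟩ := inS_inv hs
    refine ⟨_, hy.inv, fun v => ?_⟩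
    rw [act_code h1, e1, e]
    congr 2
    exact (show ∀ j : Fin 6, cinv (cinv (rep j)) = rep j by decide +kernel) j

/-- Every outer conjugate gives a representative. -/
theorem exists_type {y : G} (hy : D.Out y) : ∃ j, D.HasType j := by
  have hX : IsPGroup 3 (zpowers y) := IsPGroup.of_card (n := 1) (by
    rw [Nat.card_zpowers, pow_one]
    exact orderOf_eq_prime (hp := ⟨Nat.prime_three⟩) hy.cube fun e => hy.2.1 (e ▸ D.Q.one_mem))
  obtain ⟨h, hh, hS⟩ := D.exists_conj_inS hX fun x hx => by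
    obtain ⟨k, rfl⟩ := mem_zpowers_iff.1 hx; exact hy.1.zpow_left k
  have hs := hS y (mem_zpowers y)
  have ho := hy.conj hh
  set w := h * y * h⁻¹
  have hne : D.code w ≠ cone := fun e => ho.2.1 (mem_Q_of_code hs e)
  have h3 : cmul (D.code w) (cmul (D.code w) (D.code w)) = cone := by
    obtain ⟨a1, b1⟩ := inS_mul hs hs
    obtain ⟨a2, b2⟩ := inS_mul hs a1
    rw [← b1, ← b2, ← mul_assoc, ← pow_two, ← pow_succ, ho.cube]
    exact inS_one.2
  obtain ⟨q, j, hj⟩ := exists_rep _ hne h3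
  obtain ⟨k, hk, rfl⟩ := D.exists_code q
  obtain ⟨a, b⟩ := code_conj hk hs
  exact ⟨j, hasType_of_code (ho.conj hk.1) a (by rwa [b])⟩

/-- The codes of the pulled back elements. -/
theorem exists_codes (hg : g⁻¹ * y * g = D.z ∨ g⁻¹ * y * g = D.z⁻¹) (T : Subgroup G) (hTQ : T ≤ D.Q)
    (hTy : ∀ t ∈ T, Commute t y) : ∃ h, Commute h D.z ∧ ∀ t ∈ T, D.InS (h * (g⁻¹ * t * g) * h⁻¹) := by
  have hX : IsPGroup 3 (T.map (MulAut.conj g⁻¹).toMonoidHom) := by
    refine IsPGroup.map ?_ _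
    exact fun t => ⟨1, Subtype.ext (by simpa using D.cube_Q _ (hTQ t.2))⟩
  obtain ⟨h, hh, hS⟩ := D.exists_conj_inS hX (by
    rintro _ ⟨t, ht, rfl⟩
    simpa using pull_comm hg (hTy t ht))
  exact ⟨h, hh, fun t ht => by simpa using hS _ ⟨t, ht, rfl⟩⟩

/-- An abelian group of translations has order at most 27, and one of that order gives the first type. -/
theorem tr_group (hn : D.NoPt) (hy : D.Out y) (T : Subgroup G) (hTQ : T ≤ D.Q) (hTy : ∀ t ∈ T, Commute t y)
    (hab : ∀ s ∈ T, ∀ t ∈ T, Commute s t) (htr : ∀ t ∈ T, D.IsTr y t) (hc : 27 ≤ Nat.card T) :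
    Nat.card T ≤ 27 ∧ D.HasType 0 := by
  classical
  obtain ⟨g, hg⟩ := hy.exists_pull
  obtain ⟨h, hh, hS⟩ := exists_codes hg T hTQ hTy
  let κ : T → Code := fun t => D.code (h * (g⁻¹ * t * g) * h⁻¹)
  have hmul : ∀ s t : T, κ (s * t) = cmul (κ s) (κ t) := fun s t => by
    show D.code _ = _
    rw [← (inS_mul (hS s s.2) (hS t t.2)).2, Subgroup.coe_mul]
    congr 1; group
  have hout : ∀ t : T, t ≠ 1 → ∃ y', D.Out y' ∧ ∃ hs : D.InS y', D.code y' = κ t := fun t ht => by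
    obtain ⟨y', ho, he⟩ := pull_tr hn hy hg (hTQ t.2) (hTy t t.2) (htr t t.2) fun e => ht (Subtype.ext e)
    have hct : Commute (g⁻¹ * (t : G) * g) D.z := pull_comm hg (hTy t t.2)
    obtain ⟨a, b⟩ := code_eq (p := κ t) ((hh.mul_left ho.1).mul_left hh.inv_left) fun v => by
      rw [D.toFrame.act_mul (hh.mul_left ho.1) hh.inv_left, D.toFrame.act_mul hh ho.1, he,
        ← D.toFrame.act_mul hh hct, ← D.toFrame.act_mul (hh.mul_left hct) hh.inv_left, act_code (hS t t.2)]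
    exact ⟨_, ho.conj hh, a, b⟩
  have hinj : Function.Injective κ := by
    intro s t e
    by_contra hne
    obtain ⟨y', ho, hs, hcode⟩ := hout (s⁻¹ * t) fun e' => hne (inv_mul_eq_one.1 e')
    refine ho.2.1 (mem_Q_of_code hs ?_)
    have h1 : κ (s * (s⁻¹ * t)) = cmul (κ s) (κ (s⁻¹ * t)) := hmul _ _
    rw [mul_inv_cancel_left, ← e] at h1
    have := congrArg (cmul (cinv (κ s))) h1
    rw [← cmul_assoc, (cmul_cinv _).2, (cmul_cone _).2] at this
    rw [hcode, ← this]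
  have hcard : Nat.card (Set.range κ) = Nat.card T := Nat.card_range_of_injective hinj
  obtain ⟨-, h27, hfull⟩ := commuting_base (s := Set.range κ) (by
    rintro _ ⟨s, rfl⟩ _ ⟨t, rfl⟩
    rw [← hmul, ← hmul]
    exact congrArg κ (Subtype.ext (hab s s.2 t t.2).eq)) (by omega)
  obtain ⟨t, ht⟩ := hfull (by omega) (rep 0) (by decide)
  obtain ⟨y', ho, hs, hcode⟩ := hout t (fun e => by
    have h1 : κ 1 = cone := by
      show D.code _ = _
      rw [show h * (g⁻¹ * ((1 : T) : G) * g) * h⁻¹ = 1 by simp]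
      exact inS_one.2
    rw [e, h1] at ht
    exact absurd ht (by decide))
  exact ⟨by omega, hasType_of_code ho hs (Or.inl (hcode.trans ht))⟩

end Data

end Cfsg.Lib.Fi23Three
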