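import Cfsg.Agent.Lib.Fi23Three.Pt.Fixed
import Cfsg.Agent.Lib.Fi23Three.Pt.Out

/-!
# A 3-centraliser of type Fi₂₃: coordinates on an abelian fixed part with vanishing functional

When `chi` vanishes on an isotropic fixed space, the translations are the graph of a quadratic function.
-/

set_option autoImplicit false
set_option linter.unusedSectionVars false
set_option linter.style.haveILetI false
set_option maxRecDepth 4000

namespace Cfsg.Lib.Fi23Three

open Subgroup
open scoped commutatorElement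
open Cfsg.Lib.U6Three (zp zp_add zp_zero zp_one zp_inv zp_mem zp_comm zp_eq_one)

variable {G : Type*} [Group G] [Finite G] {D : Data G}

theorem lin_zero {n : ℕ} (f : Fin n → V) : lin f 0 = 0 := by simp [lin]

theorem lin_neg {n : ℕ} (f : Fin n → V) (c : Fin n → ZMod 3) : lin f (-c) = -lin f c :=
  eq_neg_of_add_eq_zero_left (by rw [← lin_add, neg_add_cancel, lin_zero])

theorem lin_smul_self {n : ℕ} (f : Fin n → V) (a : Fin n) (c : ZMod 3) : lin f (Pi.single a c) = c • f a := by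
  rw [lin, Finset.sum_eq_single a (fun b _ hb => by rw [Pi.single_eq_of_ne hb, zero_smul]) (by simp), Pi.single_eq_same]

theorem Data.exists_coords {n : ℕ} {y : G} (hy : Commute y D.z) (f s : Fin n → V)
    (hs : ∀ a, s a - D.toFrame.act y (s a) = f a) (hf : ∀ a, D.toFrame.act y (f a) = f a)
    (h0 : ∀ a, D.toFrame.chi y (f a) = 0) (hiso : ∀ a b, ω (f a) (f b) = 0) (δ : (Fin n → ZMod 3) → ZMod 3)
    (hδ0 : ∀ a, δ (Pi.single a 1) = 0) (hδ : ∀ c d, δ (c + d) = δ c + δ d + ω (lin s c) (lin f d)) :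
    ∃ E : (Fin n → ZMod 3) × ZMod 3 → G, (∀ u v, E (u + v) = E u * E v) ∧
      (∀ u, E u ∈ D.Q ∧ Commute (E u) y) ∧ (∀ u, D.toFrame.vec (E u) = lin f u.1) ∧
      (∀ k, E (0, k) = zp D.z k) ∧ ∀ c, D.IsTr y (E (c, δ c)) := by
  classical
  let A : Subgroup G :=
    { carrier := {q | q ∈ D.Q ∧ ∃ c, D.toFrame.vec q = lin f c}
      mul_mem' := by
        rintro a b ⟨ha, c, hc⟩ ⟨hb, d, hd⟩
        exact ⟨mul_mem ha hb, c + d, by rw [D.toFrame.vec_mul ha hb, hc, hd, lin_add]⟩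
      one_mem' := ⟨one_mem _, 0, by rw [D.toFrame.vec_one, lin_zero]⟩
      inv_mem' := by
        rintro a ⟨ha, c, hc⟩
        exact ⟨inv_mem ha, -c, by rw [D.toFrame.vec_inv ha, hc, lin_neg]⟩ }
  have hAy : ∀ q ∈ A, Commute q y := by
    rintro q ⟨hq, c, hc⟩
    refine (D.toFrame.commute_iff_chi hy hq).2 ⟨by rw [hc, D.toFrame.fix_lin hy hf], ?_⟩
    rw [hc, D.toFrame.chi_lin hy hf]
    simp [h0]
  have hAc : ∀ a b : A, a * b = b * a := by
    rintro ⟨a, ha, c, hc⟩ ⟨b, hb, d, hd⟩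
    refine Subtype.ext ?_
    show a * b = b * a
    refine ((D.toFrame.commute_iff ha hb).2 ?_).eq
    rw [hc, hd, ω_lin]
    simp [hiso]
  letI : CommGroup A := { (inferInstance : Group A) with mul_comm := hAc }
  have hcube : ∀ a : A, a ^ 3 = 1 := fun a => Subtype.ext (by simpa using D.cube_Q _ a.2.1)
  have hd : ∀ a, ⁅D.toFrame.el (s a), y⁆ ∈ A := fun a => by
    obtain ⟨h1, h2⟩ := D.toFrame.psi_vec hy (D.toFrame.el_mem (s a))
    exact ⟨h1, Pi.single a 1, by rw [h2, D.toFrame.vec_el, hs, lin_single]⟩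
  set d : Fin n → A := fun a => ⟨_, hd a⟩
  have hzA : D.z ∈ A := ⟨D.z_mem, 0, by rw [D.toFrame.vec_Zc (mem_zpowers _), lin_zero]⟩
  let E' : (Fin n → ZMod 3) × ZMod 3 → A := fun u => zp ⟨D.z, hzA⟩ u.2 * ∏ a, zp (d a) (u.1 a)
  have hEadd : ∀ u v, E' (u + v) = E' u * E' v := fun u v => by
    simp only [E', Prod.fst_add, Prod.snd_add, Pi.add_apply, zp_add (hcube _), Finset.prod_mul_distrib]
    ac_rfl
  let vh : A →* Multiplicative V :=
    MonoidHom.mk' (fun a => Multiplicative.ofAdd (D.toFrame.vec (a : G))) fun a b => by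
      rw [Subgroup.coe_mul, D.toFrame.vec_mul a.2.1 b.2.1]; rfl
  have hvec : ∀ u, D.toFrame.vec (E' u : G) = lin f u.1 := fun u => by
    have h := congrArg Multiplicative.toAdd (map_mul vh (zp ⟨D.z, hzA⟩ u.2) (∏ a, zp (d a) (u.1 a)))
    rw [map_prod, toAdd_mul, toAdd_prod] at h
    refine h.trans ?_
    show D.toFrame.vec ((zp (⟨D.z, hzA⟩ : A) u.2 : A) : G) + _ = _
    rw [D.toFrame.vec_Zc (by rw [zp, SubmonoidClass.coe_pow]; exact pow_mem (mem_zpowers _) _), zero_add, lin]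
    refine Finset.sum_congr rfl fun a _ => ?_
    show D.toFrame.vec ((zp (d a) (u.1 a) : A) : G) = _
    rw [zp, SubmonoidClass.coe_pow, show ((d a : A) : G) ^ (u.1 a).val = zp ((d a : A) : G) (u.1 a) from rfl,
      D.toFrame.vec_zp (d a).2.1]
    congr 1
    show D.toFrame.vec ⁅D.toFrame.el (s a), y⁆ = _
    rw [(D.toFrame.psi_vec hy (D.toFrame.el_mem _)).2, D.toFrame.vec_el, hs]
  have hE0 : ∀ k, (E' (0, k) : G) = zp D.z k := fun k => by
    simp [E', zp]
  set E : (Fin n → ZMod 3) × ZMod 3 → G := fun u => (E' u : G) with hE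
  have hsplit : ∀ c k, E (c, k) = zp D.z k * E (c, 0) := fun c k => by
    have h : E' ((0, k) + (c, 0)) = E' (0, k) * E' (c, 0) := hEadd _ _
    rw [Prod.mk_add_mk, zero_add, add_zero] at h
    show (E' (c, k) : G) = _
    rw [h, Subgroup.coe_mul, hE0]
  -- the translation above a combination of the preimages
  have hps : ∀ c, ∃ k, ⁅D.toFrame.el (lin s c), y⁆ = E (c, k) := fun c => by
    obtain ⟨h1, h2⟩ := D.toFrame.psi_vec hy (D.toFrame.el_mem (lin s c))
    have hl : lin s c - D.toFrame.act y (lin s c) = lin f c := by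
      rw [D.toFrame.act_lin hy]
      simp only [lin, ← Finset.sum_sub_distrib, ← smul_sub, hs]
    rw [D.toFrame.vec_el, hl] at h2
    obtain ⟨k, hk⟩ := D.toFrame.exists_zp (D.toFrame.div_mem_Zc h1 (E' (c, 0)).2.1 (h2.trans (hvec (c, 0)).symm))
    exact ⟨k, by rw [hsplit, mul_inv_eq_iff_eq_mul.1 hk]⟩
  choose κ hκ using hps
  have hzinj : ∀ c k l, E (c, k) = E (c, l) → k = l := fun c k l h => by
    rw [hsplit c k, hsplit c l] at h
    exact D.toFrame.zp_z_inj (mul_right_cancel h)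
  have hκadd : ∀ c c', κ (c + c') = κ c + κ c' + ω (lin s c) (lin f c') := fun c c' => by
    have h1 : ⁅D.toFrame.el (lin s c) * D.toFrame.el (lin s c'), y⁆ = E (c + c', κ (c + c')) := by
      rw [D.toFrame.psi_el hy (mul_mem (D.toFrame.el_mem _) (D.toFrame.el_mem _)),
        D.toFrame.vec_mul (D.toFrame.el_mem _) (D.toFrame.el_mem _), D.toFrame.vec_el, D.toFrame.vec_el, ← lin_add, hκ]
    rw [D.toFrame.psi_mul hy (D.toFrame.el_mem _) (D.toFrame.el_mem _), hκ, hκ, D.toFrame.vec_el,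
      show D.toFrame.vec (E (c', κ c')) = lin f c' from hvec _] at h1
    refine hzinj (c + c') _ _ ?_
    rw [← h1, mul_assoc, show E (c', κ c') * E (c, κ c) = E (c' + c, κ c' + κ c) from
      (congrArg Subtype.val (hEadd (c', κ c') (c, κ c))).symm, hsplit, hsplit (c + c') (κ c + κ c' + _),
      ← mul_assoc, ← zp_add D.toFrame.z_cube, add_comm c' c]
    congr 2
    ring
  have hκ0 : ∀ a, κ (Pi.single a 1) = 0 := fun a => by
    refine hzinj (Pi.single a 1) _ _ ?_
    rw [← hκ, lin_single]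
    show ⁅D.toFrame.el (s a), y⁆ = ((zp (⟨D.z, hzA⟩ : A) 0 * ∏ b, zp (d b) ((Pi.single a 1 : Fin n → ZMod 3) b) : A) : G)
    rw [zp_zero, one_mul, Finset.prod_eq_single a (fun b _ hb => by rw [Pi.single_eq_of_ne hb, zp_zero]) (by simp),
      Pi.single_eq_same, zp_one]
  have heq : ∀ c, κ c = δ c := fun c => by
    refine sub_eq_zero.1 ?_
    rw [additive_sum (fun c => κ c - δ c) (fun a b => by rw [hκadd, hδ]; ring) c]
    simp [hκ0, hδ0]
  refine ⟨E, fun u v => by show (E' (u + v) : G) = _; rw [hEadd]; rfl, fun u => ⟨(E' u).2.1, hAy _ (E' u).2⟩,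
    hvec, hE0, fun c => ⟨_, D.toFrame.el_mem (lin s c), by rw [hκ, heq]⟩⟩

end Cfsg.Lib.Fi23Three
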