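import Cfsg.Agent.Lib.Fi23Three.Pt.Tensor

/-!
# A 3-centraliser of type Fi₂₃: the standard Sylow 3-subgroup

Every 3-subgroup of `C(z)` is conjugate to one acting by the coded matrices.
-/

set_option autoImplicit false
set_option linter.unusedSectionVars false
set_option linter.style.haveILetI false
set_option maxRecDepth 4000

namespace Cfsg.Lib.Fi23Three

open Subgroup

variable {G : Type*} [Group G] [Finite G] (D : Data G)

/-- An element of `C(z)` acting as the matrix of a code. -/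
def Data.InS (g : G) : Prop := Commute g D.z ∧ ∃ p, ∀ v, D.toFrame.act g v = ev (SM p) v

/-- The code of an element. -/
noncomputable def Data.code (g : G) : Code :=
  open scoped Classical in if h : ∃ p, ∀ v, D.toFrame.act g v = ev (SM p) v then h.choose else cone

theorem SM_inj {p q : Code} (h : ∀ v, ev (SM p) v = ev (SM q) v) : p = q := by
  refine cinv_eq p q (SM_faithful _ fun i => ?_)
  rw [ev_SM_mul, h, ← ev_SM_mul, (cmul_cinv q).2, SM_cone, ev_one8]

namespace Data

variable {D}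

theorem act_code {g : G} (hg : D.InS g) (v : V) : D.toFrame.act g v = ev (SM (D.code g)) v := by
  rw [code, dif_pos hg.2]; exact hg.2.choose_spec v

theorem code_eq {g : G} {p : Code} (hg : Commute g D.z) (h : ∀ v, D.toFrame.act g v = ev (SM p) v) :
    D.InS g ∧ D.code g = p :=
  ⟨⟨hg, p, h⟩, SM_inj fun v => by rw [← act_code ⟨hg, p, h⟩, h]⟩

theorem inS_mul {g k : G} (hg : D.InS g) (hk : D.InS k) :
    D.InS (g * k) ∧ D.code (g * k) = cmul (D.code g) (D.code k) :=
  code_eq (hg.1.mul_left hk.1) fun v => by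
    rw [D.toFrame.act_mul hg.1 hk.1, act_code hg, act_code hk, ev_SM_mul]

theorem inS_Q {g : G} (hg : g ∈ D.Q) : D.InS g ∧ D.code g = cone :=
  code_eq (D.comm_z g hg) fun v => by rw [D.toFrame.act_Q hg, SM_cone, ev_one8]

theorem inS_one : D.InS (1 : G) ∧ D.code (1 : G) = cone := inS_Q D.Q.one_mem

theorem mem_Q_of_code {g : G} (hg : D.InS g) (h : D.code g = cone) : g ∈ D.Q :=
  D.toFrame.mem_Q_of_act hg.1 fun v => by rw [act_code hg, h, SM_cone, ev_one8]

theorem inS_inv {g : G} (hg : D.InS g) : D.InS g⁻¹ ∧ D.code g⁻¹ = cinv (D.code g) := by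
  refine code_eq hg.1.inv_left fun v => ?_
  refine D.toFrame.act_injective hg.1 ?_
  rw [D.toFrame.act_cancel_inv hg.1, act_code hg, ← ev_SM_mul, (cmul_cinv _).1, SM_cone, ev_one8]

theorem inS_zpow {g : G} (hg : D.InS g) (n : ℤ) : D.InS (g ^ n) := by
  have hnat : ∀ m : ℕ, D.InS (g ^ m) := fun m => by
    induction m with
    | zero => rw [pow_zero]; exact inS_one.1
    | succ m ih => rw [pow_succ]; exact (inS_mul ih hg).1
  obtain ⟨m, rfl | rfl⟩ := n.eq_nat_or_neg
  · rw [zpow_natCast]; exact hnat m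
  · rw [zpow_neg, zpow_natCast]; exact (inS_inv (hnat m)).1

/-- The code of a conjugate. -/
theorem code_conj {g k : G} (hg : D.InS g) (hk : D.InS k) :
    D.InS (g * k * g⁻¹) ∧ D.code (g * k * g⁻¹) = cmul (cmul (D.code g) (D.code k)) (cinv (D.code g)) := by
  obtain ⟨h1, e1⟩ := inS_mul hg hk
  obtain ⟨h2, e2⟩ := inS_inv hg
  obtain ⟨h3, e3⟩ := inS_mul h1 h2
  exact ⟨h3, by rw [e3, e1, e2]⟩

variable (D)

/-- Every code is realised. -/
theorem exists_code (p : Code) : ∃ g, D.InS g ∧ D.code g = p := by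
  rw [← cword_spec p]
  induction cword p with
  | nil => exact ⟨1, inS_one⟩
  | cons j L ih =>
    obtain ⟨k, hk, ek⟩ := ih
    obtain ⟨g, hg, hv⟩ := D.lift _ _ (sperm_cgen_mem_CZ j) (symp_cgen j) (tw_cgen j)
    obtain ⟨h1, e1⟩ := code_eq hg hv
    obtain ⟨h2, e2⟩ := inS_mul h1 hk
    exact ⟨g * k, h2, by rw [e2, e1, ek, List.foldr_cons]⟩

/-- The standard Sylow subgroup inside the centraliser. -/
def sylS : Subgroup (centralizer ({D.z} : Set G)) where
  carrier := {g | D.InS (g : G)}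
  mul_mem' hg hk := (inS_mul hg hk).1
  one_mem' := inS_one.1
  inv_mem' hg := (inS_inv hg).1

theorem card_sylS : Nat.card D.sylS = 3 ^ 13 := by
  choose L hL hLc using D.exists_code
  let f : Code × D.Q → D.sylS := fun p =>
    ⟨⟨L p.1 * p.2, mem_centralizer_singleton_iff.2 ((hL p.1).1.mul_left (D.comm_z _ p.2.2)).eq⟩,
      (inS_mul (hL p.1) (inS_Q p.2.2).1).1⟩
  have hf : Function.Bijective f := by
    constructor
    · intro a b e
      have e' : L a.1 * (a.2 : G) = L b.1 * b.2 := congrArg (fun u : D.sylS => ((u : centralizer ({D.z} : Set G)) : G)) e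
      have h1 := congrArg D.code e'
      rw [(inS_mul (hL _) (inS_Q a.2.2).1).2, (inS_mul (hL _) (inS_Q b.2.2).1).2, (inS_Q a.2.2).2, (inS_Q b.2.2).2,
        hLc, hLc, (cmul_cone _).1, (cmul_cone _).1] at h1
      rw [h1] at e'
      exact Prod.ext h1 (Subtype.ext (mul_left_cancel e'))
    · rintro ⟨⟨g, hgc⟩, hg⟩
      have hm : (L (D.code g))⁻¹ * g ∈ D.Q := by
        obtain ⟨h1, e1⟩ := inS_inv (hL (D.code g))
        obtain ⟨h2, e2⟩ := inS_mul h1 hg
        exact mem_Q_of_code h2 (by rw [e2, e1, hLc, (cmul_cinv _).2])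
      exact ⟨(D.code g, ⟨_, hm⟩), Subtype.ext (Subtype.ext (mul_inv_cancel_left _ _))⟩
  rw [← Nat.card_congr (Equiv.ofBijective f hf), Nat.card_prod, D.card_Q, Nat.card_prod, Nat.card_fun, Nat.card_fin]
  norm_num

/-- A 3-subgroup is conjugate into the standard one. -/
theorem exists_conj_inS {X : Subgroup G} (hX : IsPGroup 3 X) (hz : ∀ x ∈ X, Commute x D.z) :
    ∃ h, Commute h D.z ∧ ∀ x ∈ X, D.InS (h * x * h⁻¹) := by
  classical
  haveI : Fact (Nat.Prime 3) := ⟨Nat.prime_three⟩
  set C := centralizer ({D.z} : Set G)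
  have hle : X ≤ C := fun x hx => mem_centralizer_singleton_iff.2 (hz x hx).eq
  obtain ⟨P, hP⟩ := (hX.comap_of_injective C.subtype C.subtype_injective).exists_le_sylow
  have hS : IsPGroup 3 D.sylS := IsPGroup.of_card D.card_sylS
  obtain ⟨T, hT⟩ := hS.exists_le_sylow
  have hTS : D.sylS = T := by
    refine eq_of_le_of_card_ge hT ?_
    rw [D.card_sylS, T.card_eq_multiplicity, D.card_H, show (3 : ℕ) ^ 9 * 128 * 648 = 3 ^ 13 * 1024 by norm_num,
      Nat.factorization_mul (by norm_num) (by norm_num), Nat.Prime.factorization_pow Nat.prime_three,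
      Finsupp.add_apply, Finsupp.single_eq_same, Nat.factorization_eq_zero_of_not_dvd (by norm_num : ¬ 3 ∣ 1024)]
  obtain ⟨h, hh⟩ := MulAction.exists_smul_eq C P T
  refine ⟨h, mem_centralizer_singleton_iff.1 h.2, fun x hx => ?_⟩
  have hm : h * ⟨x, hle hx⟩ * h⁻¹ ∈ (T : Subgroup C) := by
    rw [← hh]
    exact ⟨⟨x, hle hx⟩, hP (by exact hx), rfl⟩
  rw [← hTS] at hm
  exact hm

end Data

end Cfsg.Lib.Fi23Three
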