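import Cfsg.Agent.Lib.Fi23Three.Pt.Code

/-!
# A 3-centraliser of type Fi₂₃: the standard Sylow generators twist the quaternion matrices
-/

set_option autoImplicit false
set_option linter.unusedSectionVars false
set_option maxRecDepth 100000

namespace Cfsg.Lib.Fi23Three

/-- The matrix of degree two of a class on one factor. -/
def m2 (c : ZMod 2 × ZMod 2) : List (List ℕ) :=
  if c = (1, 0) then [[0, 1], [2, 0]] else if c = (0, 1) then [[1, 1], [1, 2]]
  else if c = (1, 1) then [[1, 2], [2, 2]] else [[1, 0], [0, 1]]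

/-- The tensor product of the matrices of a class. -/
def kron (u : W6) : M8 := List.ofFn fun q : Fin 8 => List.ofFn fun r : Fin 8 =>
  (((m2 (u 0)).getD (bit8 q 0) []).getD (bit8 r 0) 0 * ((m2 (u 1)).getD (bit8 q 1) []).getD (bit8 r 1) 0 *
    ((m2 (u 2)).getD (bit8 q 2) []).getD (bit8 r 2) 0) % 3

theorem rhoM_eq : ∀ u : W6, rhoM u = kron u := by decide +kernel

theorem tw_table : ∀ (j : Fin 4) (u : W6),
    mmul (SM (cgen j)) (kron u) = mmul (kron (sfun (cgen j).1 (cgen j).2 u)) (SM (cgen j)) ∨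
    mmul (SM (cgen j)) (kron u) = mmul neg8 (mmul (kron (sfun (cgen j).1 (cgen j).2 u)) (SM (cgen j))) := by
  decide +kernel

theorem tw_cgen (j : Fin 4) : Tw (ev (SM (cgen j))) (sperm (cgen j).1 (cgen j).2) := fun u => by
  rcases tw_table j u with e | e
  · refine ⟨1, one_ne_zero, fun v => ?_⟩
    rw [one_smul, rho, rho, rhoM_eq, rhoM_eq, ← ev_mmul, e, ev_mmul]; rfl
  · refine ⟨-1, by decide, fun v => ?_⟩
    rw [neg_one_smul, rho, rho, rhoM_eq, rhoM_eq, ← ev_mmul, e, ev_mmul, ev_mmul, ev_neg8]; rfl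

end Cfsg.Lib.Fi23Three
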